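import Mathlib.Algebra.MvPolynomial.Funext
import Mathlib.Algebra.MvPolynomial.PDeriv
import Mathlib.Algebra.MvPolynomial.NoZeroDivisors
import Mathlib.RingTheory.MvPolynomial.EulerIdentity
import Mathlib.RingTheory.Nullstellensatz
import Mathlib.RingTheory.Polynomial.UniqueFactorization
import Mathlib.RingTheory.Localization.Integer
import Mathlib.RingTheory.Localization.FractionRing
import Mathlib.LinearAlgebra.Matrix.NonsingularInverse
import Mathlib.LinearAlgebra.Matrix.ToLin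
import Mathlib.LinearAlgebra.Dimension.OrzechProperty
import Mathlib.LinearAlgebra.FiniteDimensional.Lemmas
import Mathlib.Tactic

/-!
# Matrices of linear forms with a kernel everywhere
-/

set_option autoImplicit false

universe u

open MvPolynomial Matrix

noncomputable section

namespace Groth.Agent.H28.GM

variable {k : Type u} [Field k]

section Tools

variable {R : Type u} [CommRing R] [IsDomain R] [UniqueFactorizationMonoid R]

/-- A vector that a primitive one is proportional to is a multiple of it. -/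
theorem exists_eq_smul_of_primitive {a : Type*} (s u : a → R) (a₀ : a) (ha₀ : s a₀ ≠ 0)
    (hs : ∀ π : R, Prime π → ∃ x, ¬ π ∣ s x) (h : ∀ x y, u x * s y = u y * s x) :
    ∃ α : R, u = α • s := by
  obtain ⟨p, q, c, hpq, hp, hq⟩ := UniqueFactorizationMonoid.exists_reduced_factors (s a₀) ha₀ (u a₀)
  have hc : c ≠ 0 := fun hc => ha₀ (by rw [← hp, hc, zero_mul])
  have key : ∀ x, p * u x = q * s x := fun x => by
    have h1 := h x a₀
    rw [← hp, ← hq] at h1
    exact mul_left_cancel₀ hc (by linear_combination h1)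
  have hu : IsUnit p := by
    by_contra hu
    have hp0 : p ≠ 0 := fun hp0 => ha₀ (by rw [← hp, hp0, mul_zero])
    obtain ⟨π, hπ, hπp⟩ := WfDvdMonoid.exists_irreducible_factor hu hp0
    obtain ⟨x, hx⟩ := hs π (UniqueFactorizationMonoid.irreducible_iff_prime.1 hπ)
    exact hx (hπp.trans (hpq.dvd_of_dvd_mul_left ⟨u x, (key x).symm⟩))
  obtain ⟨v, rfl⟩ := hu
  refine ⟨((v⁻¹ : Rˣ) : R) * q, funext fun x => ?_⟩
  show u x = ((v⁻¹ : Rˣ) : R) * q * s x
  rw [mul_assoc, ← key x, Units.inv_mul_cancel_left]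

/-- Clearing denominators. -/
theorem exists_clear {K : Type*} [Field K] [Algebra R K] [IsFractionRing R K] {ι : Type*} [Finite ι]
    (f : ι → K) : ∃ (g : R) (f' : ι → R), g ≠ 0 ∧ ∀ x, algebraMap R K (f' x) = algebraMap R K g * f x := by
  obtain ⟨g, hg⟩ := IsLocalization.exist_integer_multiples_of_finite (nonZeroDivisors R) f
  choose f' hf' using hg
  exact ⟨g, f', nonZeroDivisors.coe_ne_zero g, fun x => by rw [hf', Algebra.smul_def]⟩

end Tools

variable {n a b c : ℕ}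

/-- The matrix of linear forms. -/
def lin (A : Fin (n + 1) → Matrix (Fin b) (Fin a) k) :
    Matrix (Fin b) (Fin a) (MvPolynomial (Fin (n + 1)) k) :=
  ∑ i, (X i : MvPolynomial (Fin (n + 1)) k) • (A i).map C

/-- The value at a point. -/
def at' (A : Fin (n + 1) → Matrix (Fin b) (Fin a) k) (ℓ : Fin (n + 1) → k) : Matrix (Fin b) (Fin a) k :=
  ∑ i, ℓ i • A i

/-- The value of a vector. -/
abbrev evv {d : ℕ} (ℓ : Fin (n + 1) → k) (v : Fin d → MvPolynomial (Fin (n + 1)) k) : Fin d → k :=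
  fun x => eval ℓ (v x)

theorem lin_map_eval (A : Fin (n + 1) → Matrix (Fin b) (Fin a) k) (ℓ : Fin (n + 1) → k) :
    (lin A).map (eval ℓ) = at' A ℓ := by
  ext x y
  simp [lin, at', Matrix.sum_apply]

theorem evv_mulVec {d e : ℕ} (ℓ : Fin (n + 1) → k) (M : Matrix (Fin d) (Fin e) (MvPolynomial (Fin (n + 1)) k))
    (v : Fin e → MvPolynomial (Fin (n + 1)) k) : evv ℓ (M *ᵥ v) = M.map (eval ℓ) *ᵥ evv ℓ v :=
  funext fun x => by simp [evv, mulVec, dotProduct]

theorem evv_C_mulVec {d e : ℕ} (ℓ : Fin (n + 1) → k) (M : Matrix (Fin d) (Fin e) k)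
    (v : Fin e → MvPolynomial (Fin (n + 1)) k) : evv ℓ (M.map C *ᵥ v) = M *ᵥ evv ℓ v := by
  rw [evv_mulVec]
  congr 1
  ext x y
  simp

theorem pderiv_lin (A : Fin (n + 1) → Matrix (Fin b) (Fin a) k) (i : Fin (n + 1))
    (v : Fin a → MvPolynomial (Fin (n + 1)) k) :
    (fun x => pderiv i ((lin A *ᵥ v) x)) = (A i).map C *ᵥ v + lin A *ᵥ fun y => pderiv i (v y) := by
  classical
  have h : ∀ x y, pderiv i (lin A x y) = C (A i x y) := fun x y => by
    simp only [lin, Matrix.sum_apply, Matrix.smul_apply, Matrix.map_apply, smul_eq_mul, map_sum,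
      Derivation.leibniz, pderiv_C, mul_zero, smul_zero, zero_add, pderiv_X]
    rw [Finset.sum_eq_single i]
    · simp
    · intro j _ hj
      simp [Pi.single_eq_of_ne hj]
    · simp
  funext x
  simp only [mulVec, dotProduct, map_sum, Pi.add_apply, Derivation.leibniz, h, smul_eq_mul, Matrix.map_apply,
    Finset.sum_add_distrib]
  refine (add_comm _ _).trans ?_
  congr 1
  exact Finset.sum_congr rfl fun y _ => mul_comm _ _

theorem euler (p : MvPolynomial (Fin (n + 1)) k) (m : Fin (n + 1) →₀ ℕ) :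
    coeff m (∑ i, X i * pderiv i p) = ((∑ i, m i : ℕ) : k) * coeff m p := by
  classical
  induction p using MvPolynomial.induction_on' with
  | monomial d r =>
    rw [Finset.sum_congr rfl fun i _ => X_mul_pderiv_monomial, ← Finset.sum_smul, coeff_smul, coeff_monomial,
      nsmul_eq_mul]
    split_ifs with h
    · rw [h]
    · simp
  | add p q hp hq => simp only [map_add, mul_add, Finset.sum_add_distrib, coeff_add, hp, hq]

theorem eq_zero_of_euler [CharZero k] (p L : MvPolynomial (Fin (n + 1)) k) (hL : coeff 0 L = 0)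
    (h : L * p = p + ∑ i, X i * pderiv i p) : p = 0 := by
  classical
  by_contra hp
  have hco : ∀ m, coeff m (L * p) = ((1 + ∑ i, m i : ℕ) : k) * coeff m p := fun m => by
    rw [h, coeff_add, euler]
    push_cast
    ring
  have hs : (L * p).support = p.support := Finset.ext fun m => by
    rw [mem_support_iff, mem_support_iff, hco]
    have h0 : ((1 + ∑ i, m i : ℕ) : k) ≠ 0 := by
      rw [Nat.cast_ne_zero]
      omega
    rw [mul_ne_zero_iff]
    exact ⟨fun h => h.2, fun h => ⟨h0, h⟩⟩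
  have hL0 : L ≠ 0 := fun h0 => hp (by
    rw [h0, zero_mul, support_zero] at hs
    exact support_eq_empty.1 hs.symm)
  have hdeg : (L * p).totalDegree = p.totalDegree := by
    simp only [totalDegree, hs]
  rw [totalDegree_mul_of_isDomain hL0 hp] at hdeg
  obtain ⟨r, hr⟩ : ∃ r, L = C r := ⟨coeff 0 L, totalDegree_eq_zero_iff_eq_C.1 (by omega)⟩
  exact hL0 (by rw [hr] at hL ⊢; simp_all)

variable [IsAlgClosed k] [CharZero k]

/-- There is no such pair of matrices of linear forms. -/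
theorem no_kernel_everywhere (hn : 2 ≤ n) (A : Fin (n + 1) → Matrix (Fin b) (Fin a) k)
    (B : Fin (n + 1) → Matrix (Fin c) (Fin b) k) (hcomm : ∀ i j, B i * A j = B j * A i)
    (hA : ∀ ℓ : Fin (n + 1) → k, ℓ ≠ 0 → ∃ v, v ≠ 0 ∧ at' B ℓ *ᵥ v = 0)
    (hI : ∃ ℓ : Fin (n + 1) → k, Function.Injective (at' A ℓ).mulVec)
    (hJ : ∀ y y' : Fin (n + 1) → k, LinearIndependent k ![y, y'] →
      ∀ v, at' A y *ᵥ v = 0 → at' A y' *ᵥ v = 0 → v = 0)
    (hK : ∀ ℓ : Fin (n + 1) → k, ℓ ≠ 0 → Function.Injective (at' A ℓ).mulVec →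
      ∀ v w, at' B ℓ *ᵥ v = 0 → at' B ℓ *ᵥ w = 0 → v ≠ 0 → ∃ r : k, w = r • v)
    (hS : ∀ ℓ : Fin (n + 1) → k, ℓ ≠ 0 → Function.Injective (at' A ℓ).mulVec →
      ∀ v, at' B ℓ *ᵥ v = 0 → (∀ i, ∃ u, B i *ᵥ v = at' B ℓ *ᵥ u) → ∃ w, at' A ℓ *ᵥ w = v) :
    False := by
  classical
  let R := MvPolynomial (Fin (n + 1)) k
  -- the open set where `A` is injective
  obtain ⟨C₀, qA, hqA, hGinj⟩ : ∃ (C₀ : Matrix (Fin a) (Fin b) k) (qA : R), qA ≠ 0 ∧
      qA = ((C₀.map C) * lin A).det := by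
    obtain ⟨ℓ₀, hℓ₀⟩ := hI
    obtain ⟨g, hg⟩ := LinearMap.exists_leftInverse_of_injective (at' A ℓ₀).mulVecLin
      (LinearMap.ker_eq_bot.2 hℓ₀)
    refine ⟨LinearMap.toMatrix' g, _, fun h0 => ?_, rfl⟩
    have h1 := congrArg (eval ℓ₀) h0
    rw [RingHom.map_det, map_zero, RingHom.mapMatrix_apply, Matrix.map_mul, lin_map_eval] at h1
    rw [show ((LinearMap.toMatrix' g).map C).map (eval ℓ₀) = LinearMap.toMatrix' g from by ext x y; simp] at h1
    have h2 : LinearMap.toMatrix' g * at' A ℓ₀ = 1 := by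
      rw [← LinearMap.toMatrix'_toLin' (at' A ℓ₀), ← LinearMap.toMatrix'_comp, Matrix.toLin'_apply', hg, LinearMap.toMatrix'_id]
    rw [h2, Matrix.det_one] at h1
    exact one_ne_zero h1
  have hgood : ∀ ℓ : Fin (n + 1) → k, eval ℓ (qA * X 0) ≠ 0 →
      ℓ ≠ 0 ∧ IsUnit (C₀ * at' A ℓ).det ∧ Function.Injective (at' A ℓ).mulVec := by
    intro ℓ hℓ
    rw [map_mul, eval_X] at hℓ
    have hd : (C₀ * at' A ℓ).det = eval ℓ qA := by
      rw [hGinj, RingHom.map_det, RingHom.mapMatrix_apply, Matrix.map_mul, lin_map_eval]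
      congr 2
      ext x y
      simp
    have hu : IsUnit (C₀ * at' A ℓ).det := isUnit_iff_ne_zero.2 (hd ▸ left_ne_zero_of_mul hℓ)
    refine ⟨fun h => right_ne_zero_of_mul hℓ (by rw [h]; rfl), hu, fun v w h => ?_⟩
    apply Matrix.mulVec_injective_of_isUnit ((Matrix.isUnit_iff_isUnit_det _).2 hu)
    show (C₀ * at' A ℓ) *ᵥ v = (C₀ * at' A ℓ) *ᵥ w
    rw [← Matrix.mulVec_mulVec, ← Matrix.mulVec_mulVec, h]
  have hg0 : qA * X 0 ≠ 0 := mul_ne_zero hqA (X_ne_zero 0)
  have ext_good : ∀ {d : ℕ} (p p' : Fin d → R),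
      (∀ ℓ, eval ℓ (qA * X 0) ≠ 0 → evv ℓ p = evv ℓ p') → p = p' := by
    intro d p p' h
    funext x
    refine mul_left_cancel₀ hg0 (MvPolynomial.funext fun ℓ => ?_)
    rw [map_mul (eval ℓ) (qA * X 0) (p x), map_mul (eval ℓ) (qA * X 0) (p' x)]
    by_cases hl : eval ℓ (qA * X 0) = 0
    · rw [hl, zero_mul, zero_mul]
    · exact congrArg (eval ℓ (qA * X 0) * ·) (congrFun (h ℓ hl) x)
  -- a kernel vector
  let K := FractionRing R
  obtain ⟨s₀, hs₀, hBs₀⟩ : ∃ s : Fin b → R, s ≠ 0 ∧ lin B *ᵥ s = 0 := by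
    by_contra hno
    push Not at hno
    have hinj : Function.Injective ((lin B).map (algebraMap R K)).mulVecLin := by
      refine (injective_iff_map_eq_zero _).2 fun v hv => ?_
      obtain ⟨g, v', hg, hv'⟩ := exists_clear (R := R) v
      have h1 : lin B *ᵥ v' = 0 := funext fun x => IsFractionRing.injective R K (by
        have h2 : algebraMap R K g * ((lin B).map (algebraMap R K) *ᵥ v) x = 0 := by
          rw [show (lin B).map (algebraMap R K) *ᵥ v = 0 from hv, Pi.zero_apply, mul_zero]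
        rw [Pi.zero_apply, map_zero, ← h2]
        simp only [mulVec, dotProduct, map_sum, map_mul, Finset.mul_sum, Matrix.map_apply, hv']
        exact Finset.sum_congr rfl fun y _ => by ring)
      have h3 : v' = 0 := by
        by_contra h3
        exact hno v' h3 h1
      funext x
      have h4 := hv' x
      rw [h3, Pi.zero_apply, map_zero] at h4
      exact (mul_eq_zero.1 h4.symm).resolve_left ((map_ne_zero_iff _ (IsFractionRing.injective R K)).2 hg)
    obtain ⟨G, hG⟩ := LinearMap.exists_leftInverse_of_injective _ (LinearMap.ker_eq_bot.2 hinj)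
    obtain ⟨g, G', hg, hG'⟩ := exists_clear (R := R) (fun p : Fin b × Fin c => LinearMap.toMatrix' G p.1 p.2)
    let G'' : Matrix (Fin b) (Fin c) R := fun x y => G' (x, y)
    have hGB : G'' * lin B = g • (1 : Matrix (Fin b) (Fin b) R) := by
      refine (Matrix.map_injective (IsFractionRing.injective R K)) ?_
      have h1 : G''.map (algebraMap R K) = algebraMap R K g • LinearMap.toMatrix' G := by
        ext x y
        exact hG' (x, y)
      have h2 : LinearMap.toMatrix' G * (lin B).map (algebraMap R K) = 1 := by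
        rw [← LinearMap.toMatrix'_toLin' ((lin B).map (algebraMap R K)), ← LinearMap.toMatrix'_comp,
          Matrix.toLin'_apply', hG, LinearMap.toMatrix'_id]
      show (G'' * lin B).map (algebraMap R K) = (g • (1 : Matrix (Fin b) (Fin b) R)).map (algebraMap R K)
      rw [Matrix.map_mul, h1, Matrix.smul_mul, h2]
      ext x y
      simp [Matrix.one_apply, apply_ite (algebraMap R K)]
    obtain ⟨ℓ, hℓ⟩ : ∃ ℓ, eval ℓ (g * X 0) ≠ 0 := by
      by_contra! h
      exact mul_ne_zero hg (X_ne_zero 0) (MvPolynomial.funext fun ℓ => (h ℓ).trans (map_zero _).symm)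
    rw [map_mul, eval_X] at hℓ
    obtain ⟨v, hv, hBv⟩ := hA ℓ fun h => right_ne_zero_of_mul hℓ (by rw [h]; rfl)
    have h1 : (G''.map (eval ℓ)) *ᵥ (at' B ℓ *ᵥ v) = eval ℓ g • v := by
      rw [Matrix.mulVec_mulVec, ← lin_map_eval, ← Matrix.map_mul, hGB]
      funext x
      simp [mulVec, dotProduct, Matrix.one_apply, apply_ite (eval ℓ)]
    rw [hBv, Matrix.mulVec_zero] at h1
    exact hv ((smul_eq_zero.1 h1.symm).resolve_left (left_ne_zero_of_mul hℓ))
  obtain ⟨a₀, ha₀⟩ := Function.ne_iff.1 hs₀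
  -- made primitive
  obtain ⟨s, hBs, hsne, hprim⟩ : ∃ s : Fin b → R, lin B *ᵥ s = 0 ∧ s a₀ ≠ 0 ∧
      ∀ π : R, Prime π → ∃ x, ¬ π ∣ s x := by
    let T : Set R := {r | ∃ s : Fin b → R, lin B *ᵥ s = 0 ∧ s a₀ = r ∧ r ≠ 0}
    obtain ⟨r, ⟨s, hBs, rfl, hr⟩, hmin⟩ := (IsWellFounded.wf (r := DvdNotUnit (α := R))).has_min T
      ⟨s₀ a₀, s₀, hBs₀, rfl, ha₀⟩
    refine ⟨s, hBs, hr, fun π hπ => ?_⟩
    by_contra! hall
    choose t ht using hall
    have ht' : s = π • t := funext ht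
    refine hmin (t a₀) ⟨t, ?_, rfl, fun h0 => hr (by rw [ht a₀, h0, mul_zero])⟩
      ⟨fun h0 => hr (by rw [ht a₀, h0, mul_zero]), π, hπ.not_isUnit, by rw [ht a₀, mul_comm]⟩
    rw [ht', Matrix.mulVec_smul] at hBs
    exact (smul_eq_zero.1 hBs).resolve_left hπ.ne_zero
  have hprop : ∀ u : Fin b → R, lin B *ᵥ u = 0 → ∃ α : R, u = α • s := by
    intro u hu
    refine exists_eq_smul_of_primitive s u a₀ hsne hprim fun x y => ?_
    refine sub_eq_zero.1 (congrFun (ext_good (d := 1) (fun _ => u x * s y - u y * s x) 0 fun ℓ hℓ => ?_) 0)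
    funext _
    obtain ⟨h0, -, hinj⟩ := hgood ℓ hℓ
    show eval ℓ (u x * s y - u y * s x) = eval ℓ 0
    rw [map_sub, map_mul, map_mul, map_zero]
    by_cases hs : evv ℓ s = 0
    · rw [show eval ℓ (s y) = 0 from congrFun hs y, show eval ℓ (s x) = 0 from congrFun hs x]
      ring
    have hv : at' B ℓ *ᵥ evv ℓ s = 0 := by
      rw [← lin_map_eval, ← evv_mulVec, hBs]; funext z; simp [evv]
    have hw : at' B ℓ *ᵥ evv ℓ u = 0 := by
      rw [← lin_map_eval, ← evv_mulVec, hu]; funext z; simp [evv]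
    obtain ⟨r, hr⟩ := hK ℓ h0 hinj _ _ hv hw hs
    rw [show eval ℓ (u x) = r * eval ℓ (s x) from congrFun hr x,
      show eval ℓ (u y) = r * eval ℓ (s y) from congrFun hr y]
    ring
  -- derivatives
  let d' : ∀ {e : ℕ}, Fin (n + 1) → (Fin e → R) → Fin e → R := fun i v y => pderiv i (v y)
  have E2 : ∀ i, (B i).map C *ᵥ s + lin B *ᵥ d' i s = 0 := fun i => by
    rw [← pderiv_lin, hBs]; funext x; simp
  -- `s` is in the image of `A`
  obtain ⟨W₀, hW₀⟩ : ∃ W : Fin a → R, lin A *ᵥ W = qA • s := by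
    refine ⟨((C₀.map C) * lin A).adjugate *ᵥ (C₀.map C *ᵥ s), ext_good _ _ fun ℓ hℓ => ?_⟩
    obtain ⟨h0, -, hinj⟩ := hgood ℓ hℓ
    have hv : at' B ℓ *ᵥ evv ℓ s = 0 := by
      rw [← lin_map_eval, ← evv_mulVec, hBs]; funext z; simp [evv]
    have hi : ∀ i, ∃ u, B i *ᵥ evv ℓ s = at' B ℓ *ᵥ u := fun i => by
      refine ⟨-evv ℓ (d' i s), ?_⟩
      rw [Matrix.mulVec_neg, ← evv_C_mulVec ℓ (B i) s, ← lin_map_eval, ← evv_mulVec]
      funext z
      have h := congrArg (eval ℓ) (congrFun (E2 i) z)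
      rw [Pi.add_apply, map_add, Pi.zero_apply, map_zero] at h
      exact eq_neg_of_add_eq_zero_left h
    obtain ⟨w, hw⟩ := hS ℓ h0 hinj _ hv hi
    have hA' : ((C₀.map C) * lin A).map (eval ℓ) = C₀ * at' A ℓ := by
      rw [Matrix.map_mul, lin_map_eval]
      congr 1
      ext x y
      simp
    have hd : eval ℓ qA = (C₀ * at' A ℓ).det := by
      rw [hGinj, RingHom.map_det, RingHom.mapMatrix_apply, hA']
    have hadj : (((C₀.map C) * lin A).adjugate).map (eval ℓ) = (C₀ * at' A ℓ).adjugate := by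
      rw [← hA']
      exact RingHom.map_adjugate (eval ℓ) _
    rw [evv_mulVec, lin_map_eval, evv_mulVec, hadj, evv_C_mulVec, ← hw, Matrix.mulVec_mulVec _ C₀,
      Matrix.mulVec_mulVec w (C₀ * at' A ℓ).adjugate, Matrix.adjugate_mul, ← hd, Matrix.smul_mulVec,
      Matrix.one_mulVec, Matrix.mulVec_smul, hw]
    funext z
    simp [evv]
  -- minimal denominator
  obtain ⟨q, W, hq, hW, hqmin⟩ : ∃ (q : R) (W : Fin a → R), q ≠ 0 ∧ lin A *ᵥ W = q • s ∧
      ∀ (q' : R) (W' : Fin a → R), q' ≠ 0 → lin A *ᵥ W' = q' • s → ¬ DvdNotUnit q' q := by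
    obtain ⟨q, ⟨hq, W, hW⟩, hmin⟩ := (IsWellFounded.wf (r := DvdNotUnit (α := R))).has_min
      {q | q ≠ 0 ∧ ∃ W : Fin a → R, lin A *ᵥ W = q • s} ⟨qA, hqA, W₀, hW₀⟩
    exact ⟨q, W, hq, hW, fun q' W' h1 h2 => hmin q' ⟨h1, W', h2⟩⟩
  have hBA : ∀ i, lin B * (A i).map C = (B i).map C * lin A := fun i => by
    simp only [lin, Matrix.sum_mul, Matrix.mul_sum, Matrix.smul_mul, Matrix.mul_smul, ← Matrix.map_mul]
    exact Finset.sum_congr rfl fun j _ => by rw [hcomm]
  have hβ : ∀ i, ∃ β : R, β • s = (A i).map C *ᵥ W + q • d' i s := by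
    intro i
    have E1 : (A i).map C *ᵥ W + lin A *ᵥ d' i W = pderiv i q • s + q • d' i s := by
      rw [← pderiv_lin, hW]
      funext x
      simp only [Pi.smul_apply, Pi.add_apply, smul_eq_mul, Derivation.leibniz, d']
      ring
    have hBi : lin B *ᵥ ((A i).map C *ᵥ W) = q • ((B i).map C *ᵥ s) := by
      rw [Matrix.mulVec_mulVec, hBA, ← Matrix.mulVec_mulVec, hW, Matrix.mulVec_smul]
    obtain ⟨α, hα⟩ := hprop ((2 : R) • ((A i).map C *ᵥ W) + lin A *ᵥ d' i W) (by
      have h := congrArg (lin B *ᵥ ·) E1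
      simp only [Matrix.mulVec_add, Matrix.mulVec_smul, hBs, smul_zero, zero_add, hBi] at h
      rw [eq_neg_of_add_eq_zero_right (E2 i), smul_neg] at h
      rw [Matrix.mulVec_add, Matrix.mulVec_smul, hBi, two_smul, add_assoc, h, add_neg_cancel])
    refine ⟨α - pderiv i q, ?_⟩
    rw [sub_smul, ← hα, two_smul, add_assoc, E1]
    abel
  choose β hβ using hβ
  have hqu : IsUnit q := by
    by_contra hqu
    obtain ⟨π, hπ, hπq⟩ := WfDvdMonoid.exists_irreducible_factor hqu hq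
    have hπp : Prime π := UniqueFactorizationMonoid.irreducible_iff_prime.1 hπ
    have hdvd : ∀ x, π ∣ W x := by
      intro x
      haveI : (Ideal.span {π}).IsPrime := (Ideal.span_singleton_prime hπp.ne_zero).2 hπp
      rw [← Ideal.mem_span_singleton, ← (inferInstance : (Ideal.span {π}).IsPrime).isRadical.radical,
        ← MvPolynomial.vanishingIdeal_zeroLocus_eq_radical (K := k)]
      refine fun ℓ hℓ => ?_
      have hπ0 : eval ℓ π = 0 := hℓ π (Ideal.mem_span_singleton_self π)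
      have hq0 : eval ℓ q = 0 := by
        obtain ⟨q', rfl⟩ := hπq
        rw [map_mul, hπ0, zero_mul]
      have hkey : ∀ i, A i *ᵥ evv ℓ W = eval ℓ (β i) • evv ℓ s := fun i => by
        have h := congrArg (evv ℓ) (hβ i)
        rw [← evv_C_mulVec]
        funext z
        have hz := congrFun h z
        simp only [evv, Pi.add_apply, Pi.smul_apply, smul_eq_mul, map_add, map_mul, hq0, zero_mul, add_zero] at hz
        exact hz.symm
      obtain ⟨y, hy⟩ : ∃ y : Fin 2 → (Fin (n + 1) → k), LinearIndependent k y ∧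
          ∀ m, ∑ i, y m i * eval ℓ (β i) = 0 := by
        let f : (Fin (n + 1) → k) →ₗ[k] k := Fintype.linearCombination k fun i => eval ℓ (β i)
        have hf : 2 ≤ Module.finrank k (LinearMap.ker f) := by
          have h1 := LinearMap.finrank_range_add_finrank_ker f
          rw [Module.finrank_fin_fun] at h1
          have h2 : Module.finrank k (LinearMap.range f) ≤ 1 :=
            (Submodule.finrank_le _).trans (Module.finrank_self k).le
          omega
        obtain ⟨y, hy⟩ := exists_linearIndependent_of_le_finrank hf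
        refine ⟨fun m => (y m).1, hy.map' (LinearMap.ker f).subtype (Submodule.ker_subtype _), fun m => ?_⟩
        have h := LinearMap.mem_ker.1 (y m).2
        simp only [f, Fintype.linearCombination_apply, smul_eq_mul] at h
        exact h
      have hz : ∀ m, at' A (y m) *ᵥ evv ℓ W = 0 := fun m => by
        simp only [at', Matrix.sum_mulVec, Matrix.smul_mulVec, hkey, smul_smul, ← Finset.sum_smul, hy.2 m, zero_smul]
      have hW0 := hJ (y 0) (y 1) (by
        convert hy.1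
        funext m
        fin_cases m <;> rfl) _ (hz 0) (hz 1)
      show aeval ℓ (W x) = 0
      exact congrFun hW0 x
    obtain ⟨q', rfl⟩ := hπq
    choose W' hW' using hdvd
    have hW'' : W = π • W' := funext hW'
    refine hqmin q' W' (right_ne_zero_of_mul hq) ?_ ⟨right_ne_zero_of_mul hq, π, hπp.not_isUnit, mul_comm _ _⟩
    rw [hW'', Matrix.mulVec_smul, mul_smul] at hW
    exact smul_right_injective _ hπp.ne_zero hW
  obtain ⟨v, rfl⟩ := hqu
  let L : R := ∑ i, X i * (((v⁻¹ : Rˣ) : R) * β i)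
  refine hsne (eq_zero_of_euler _ L ?_ ?_)
  · rw [coeff_sum]
    exact Finset.sum_eq_zero fun i _ => by
      rw [← constantCoeff_eq, map_mul, constantCoeff_X, zero_mul]
  have hsum : (v : R) • (L • s) = (v : R) • (s + fun x => ∑ i, X i * pderiv i (s x)) := by
    have h1 : ∑ i, (X i : R) • (β i • s) = ∑ i, (X i : R) • ((A i).map C *ᵥ W + (v : R) • d' i s) :=
      Finset.sum_congr rfl fun i _ => by rw [hβ]
    have h2 : ∑ i, (X i : R) • ((A i).map C *ᵥ W) = (v : R) • s := by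
      rw [← hW, lin, Matrix.sum_mulVec]
      simp only [Matrix.smul_mulVec]
    simp only [smul_add, Finset.sum_add_distrib, h2] at h1
    refine Eq.trans ?_ (h1.trans ?_)
    · simp only [smul_smul]
      rw [← Finset.sum_smul]
      congr 1
      show (v : MvPolynomial (Fin (n + 1)) k) * L = _
      refine (Finset.mul_sum _ _ _).trans (Finset.sum_congr rfl fun i _ => ?_)
      rw [mul_left_comm, ← mul_assoc (v : R), Units.mul_inv, one_mul]
    · rw [smul_add]
      congr 1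
      funext x
      simp only [Finset.sum_apply, Pi.smul_apply, smul_eq_mul, d']
      rw [Finset.mul_sum]
      exact Finset.sum_congr rfl fun i _ => by ring
  exact congrFun (smul_right_injective _ v.ne_zero hsum) a₀

/-- Coordinate free form. -/
theorem no_kernel_everywhere' (hn : 2 ≤ n) {N₀ N₁ N₂ : Type*} [AddCommGroup N₀] [Module k N₀]
    [FiniteDimensional k N₀] [AddCommGroup N₁] [Module k N₁] [FiniteDimensional k N₁] [AddCommGroup N₂]
    [Module k N₂] [FiniteDimensional k N₂] (A : Fin (n + 1) → N₀ →ₗ[k] N₁) (B : Fin (n + 1) → N₁ →ₗ[k] N₂)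
    (hcomm : ∀ i j, B i ∘ₗ A j = B j ∘ₗ A i)
    (hA : ∀ ℓ : Fin (n + 1) → k, ℓ ≠ 0 → ∃ v, v ≠ 0 ∧ (∑ i, ℓ i • B i) v = 0)
    (hI : ∃ ℓ : Fin (n + 1) → k, Function.Injective ⇑(∑ i, ℓ i • A i))
    (hJ : ∀ y y' : Fin (n + 1) → k, LinearIndependent k ![y, y'] →
      ∀ v, (∑ i, y i • A i) v = 0 → (∑ i, y' i • A i) v = 0 → v = 0)
    (hK : ∀ ℓ : Fin (n + 1) → k, ℓ ≠ 0 → Function.Injective ⇑(∑ i, ℓ i • A i) →
      ∀ v w, (∑ i, ℓ i • B i) v = 0 → (∑ i, ℓ i • B i) w = 0 → v ≠ 0 → ∃ r : k, w = r • v)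
    (hS : ∀ ℓ : Fin (n + 1) → k, ℓ ≠ 0 → Function.Injective ⇑(∑ i, ℓ i • A i) →
      ∀ v, (∑ i, ℓ i • B i) v = 0 → (∀ i, ∃ u, B i v = (∑ i, ℓ i • B i) u) →
        ∃ w, (∑ i, ℓ i • A i) w = v) :
    False := by
  let e₀ := (Module.finBasis k N₀).equivFun
  let e₁ := (Module.finBasis k N₁).equivFun
  let e₂ := (Module.finBasis k N₂).equivFun
  let A' := fun i => LinearMap.toMatrix' (e₁.toLinearMap ∘ₗ A i ∘ₗ e₀.symm.toLinearMap)
  let B' := fun i => LinearMap.toMatrix' (e₂.toLinearMap ∘ₗ B i ∘ₗ e₁.symm.toLinearMap)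
  have hA' : ∀ ℓ v, at' A' ℓ *ᵥ v = e₁ ((∑ i, ℓ i • A i) (e₀.symm v)) := fun ℓ v => by
    simp only [at', Matrix.sum_mulVec, Matrix.smul_mulVec, A', LinearMap.toMatrix'_mulVec, LinearMap.sum_apply,
      map_sum, LinearMap.smul_apply, map_smul]
    rfl
  have hB' : ∀ ℓ v, at' B' ℓ *ᵥ v = e₂ ((∑ i, ℓ i • B i) (e₁.symm v)) := fun ℓ v => by
    simp only [at', Matrix.sum_mulVec, Matrix.smul_mulVec, B', LinearMap.toMatrix'_mulVec, LinearMap.sum_apply,
      map_sum, LinearMap.smul_apply, map_smul]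
    rfl
  have hinj : ∀ ℓ, Function.Injective (at' A' ℓ).mulVec ↔ Function.Injective ⇑(∑ i, ℓ i • A i) := fun ℓ => by
    rw [show (at' A' ℓ).mulVec = e₁ ∘ ⇑(∑ i, ℓ i • A i) ∘ e₀.symm from _root_.funext (hA' ℓ),
      Function.Injective.of_comp_iff e₁.injective, Function.Injective.of_comp_iff' _ e₀.symm.bijective]
  refine no_kernel_everywhere hn A' B' (fun i j => ?_) (fun ℓ hℓ => ?_) ?_ (fun y y' hy v h1 h2 => ?_)
    (fun ℓ hℓ hi v w h1 h2 h3 => ?_) fun ℓ hℓ hi v h1 h2 => ?_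
  · simp only [A', B', ← LinearMap.toMatrix'_comp]
    congr 1
    apply LinearMap.ext
    intro x
    have h := LinearMap.congr_fun (hcomm i j) (e₀.symm x)
    simp only [LinearMap.comp_apply, LinearEquiv.coe_coe, LinearEquiv.symm_apply_apply] at h ⊢
    rw [h]
  · obtain ⟨v, hv, h⟩ := hA ℓ hℓ
    exact ⟨e₁ v, e₁.map_ne_zero_iff.2 hv, by rw [hB', e₁.symm_apply_apply, h, map_zero]⟩
  · obtain ⟨ℓ, h⟩ := hI
    exact ⟨ℓ, (hinj ℓ).2 h⟩
  · rw [hA', e₁.map_eq_zero_iff] at h1 h2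
    exact e₀.symm.map_eq_zero_iff.1 (hJ y y' hy _ h1 h2)
  · rw [hB', e₂.map_eq_zero_iff] at h1 h2
    obtain ⟨r, hr⟩ := hK ℓ hℓ ((hinj ℓ).1 hi) _ _ h1 h2 (e₁.symm.map_ne_zero_iff.2 h3)
    exact ⟨r, e₁.symm.injective (by rw [hr, map_smul])⟩
  · rw [hB', e₂.map_eq_zero_iff] at h1
    obtain ⟨w, hw⟩ := hS ℓ hℓ ((hinj ℓ).1 hi) _ h1 fun i => by
      obtain ⟨u, hu⟩ := h2 i
      rw [hB'] at hu
      refine ⟨e₁.symm u, e₂.injective ?_⟩
      rw [← hu]
      simp [B', LinearMap.toMatrix'_mulVec]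
    exact ⟨e₀ w, by rw [hA', e₀.symm_apply_apply, hw, e₁.apply_symm_apply]⟩

end Groth.Agent.H28.GM
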