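import Groth.Agent.H28.GM.Main
import Groth.Agent.H28.Serre2.Twist
import Groth.Agent.H28.Serre2.Plane
import Groth.Agent.S7797

/-!
# Restricting semistability to hyperplanes and lines
-/

set_option autoImplicit false
set_option backward.isDefEq.respectTransparency false
set_option backward.isDefEq.respectTransparency.types false
set_option linter.style.haveILetI false
set_option linter.unusedSectionVars false
set_option maxHeartbeats 1000000
set_option synthInstance.maxHeartbeats 400000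

universe u

open CategoryTheory CategoryTheory.Limits AlgebraicGeometry TopologicalSpace Opposite
open scoped Groth.Agent.H23.PicMul

noncomputable section

namespace Groth.Agent.H28.GM

open Groth.Agent Groth.Agent.Synt29 Groth.Agent.H23.PicMul Groth.Agent.AModX

variable {k : Type u} [Field k]

local instance over3 : ∀ m : ℕ, (CohB1.ProjSpace m k).Over (Spec (CommRingCat.of k)) := fun m =>
  ⟨CohB1.ProjSpace.toSpec m k⟩

local instance qs3 : ∀ m : ℕ, QuasiSeparated (CohB1.ProjSpace.toSpec m k) := fun m => by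
  haveI := PnCoh.Chow.isProper_toSpec m k
  infer_instance

local instance integral3 : ∀ m : ℕ, IsIntegral (CohB1.ProjSpace m k) := fun m =>
  H23.PnChart.isIntegral_projSpace m k

local instance noeth3 : ∀ m : ℕ, IsLocallyNoetherian (CohB1.ProjSpace m k) := fun m =>
  PnCoh.Finite.isLocallyNoetherian_projSpace m k

variable {n : ℕ}

/-- `E(d)`. -/
abbrev twd (E : (CohB1.ProjSpace n k).Modules) (d : ℤ) : (CohB1.ProjSpace n k).Modules :=
  CohB1.tensorMod E (Twist.twistProjSpace n k d)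

theorem cl_twd (E : (CohB1.ProjSpace n k).Modules) (d : ℤ) :
    PicF.cl (twd E d) = PicF.cl E * PnEuler.tw n k d := cl_tensor _ _

theorem cl_twd_succ (E : (CohB1.ProjSpace n k).Modules) (d : ℤ) :
    PicF.cl (CohB1.tensorMod (twd E d) (Hl n k)) = PicF.cl (twd E (d + 1)) := by
  rw [cl_tensor, cl_twd, cl_twd, mul_assoc]
  exact congrArg (PicF.cl E * ·) (PnEuler.tw_add n k d 1)

theorem rank_twd {E : (CohB1.ProjSpace n k).Modules} (hE : FlatMod.IsFinLocFreeOfRank 2 E) (d : ℤ) :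
    FlatMod.IsFinLocFreeOfRank 2 (twd E d) :=
  SubLine.rank_of_cl ((cl_twd E d).trans ((_root_.mul_comm _ _).trans (cl_tensor (Twist.twistProjSpace n k d) E).symm))
    (H28.Serre2.rank_twist (PnEuler.isInvertible_O n k d) hE)

theorem det_twd {E : (CohB1.ProjSpace n k).Modules} (hE : FlatMod.IsFinLocFreeOfRank 2 E) {c : ℤ}
    (hdet : ∃ L : (CohB1.ProjSpace n k).Modules, ExtPow.IsExtPow 2 E L ∧ Nonempty (L ≅ Twist.twistProjSpace n k c))
    {t : ℤ} {M : (CohB1.ProjSpace n k).Modules} (hM : PicF.cl M = PicF.cl (twd E t)) :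
    ∃ L : (CohB1.ProjSpace n k).Modules, ExtPow.IsExtPow 2 M L ∧
      Nonempty (L ≅ Twist.twistProjSpace n k (c + 2 * t)) := by
  have h := H28.LamTwist.isExtPow_twist (PnEuler.isInvertible_O n k t) (H28.KvbModel.lf_of_rank hE) 2
  obtain ⟨e⟩ := cl_eq_iff.1 (show PicF.cl (CohB1.tensorMod (Twist.twistProjSpace n k t) E) = PicF.cl M by
    rw [hM, cl_tensor, cl_tensor, _root_.mul_comm])
  obtain ⟨ec⟩ := Rank2Pn.cl_det hE hdet
  refine ⟨_, ExtPowPull.isExtPow_of_iso e h, cl_eq_iff.1 ?_⟩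
  rw [cl_tensor, ← cl_eq_iff.2 ⟨ec⟩,
    show PicF.cl (CohB1.tensorPow (Twist.twistProjSpace n k t) 2) = PnEuler.tw n k (2 * t) from ?_]
  · exact (PnEuler.tw_add n k (2 * t) c).trans (congrArg (PnEuler.tw n k) (add_comm _ _))
  · show PicF.cl (CohB1.tensorMod (CohB1.tensorMod (Coh.structureModule _) (Twist.twistProjSpace n k t))
      (Twist.twistProjSpace n k t)) = _
    rw [cl_tensor, cl_tensor, ← H23.PicMul.one_def, one_mul]
    exact (PnEuler.tw_add n k t t).trans (congrArg (PnEuler.tw n k) (two_mul t).symm)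

theorem subsingleton_pull_of_cl {X Y : Scheme.{u}} (j : X ⟶ Y) {M M' : Y.Modules} (h : PicF.cl M = PicF.cl M')
    (hs : Subsingleton Γ((Scheme.Modules.pullback j).obj M, ⊤)) :
    Subsingleton Γ((Scheme.Modules.pullback j).obj M', ⊤) := by
  obtain ⟨e⟩ := cl_eq_iff.1 h
  exact (ConcreteCategory.bijective_of_isIso (((Scheme.Modules.pullback j).mapIso e).inv.app ⊤)).1.subsingleton

theorem subsingleton_of_cl {Y : Scheme.{u}} {M M' : Y.Modules} (h : PicF.cl M = PicF.cl M')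
    (hs : Subsingleton Γ(M, ⊤)) : Subsingleton Γ(M', ⊤) := by
  obtain ⟨e⟩ := cl_eq_iff.1 h
  exact (ConcreteCategory.bijective_of_isIso (e.inv.app ⊤)).1.subsingleton

variable [IsAlgClosed k] [CharZero k] {m : ℕ}

/-- A hyperplane without sections. -/
theorem exists_hyperplane {E : (CohB1.ProjSpace (m + 2) k).Modules} (hE : FlatMod.IsFinLocFreeOfRank 2 E) {c : ℤ}
    (hdet : ∃ L : (CohB1.ProjSpace (m + 2) k).Modules, ExtPow.IsExtPow 2 E L ∧
      Nonempty (L ≅ Twist.twistProjSpace (m + 2) k c))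
    {t : ℤ} (hd : c + 2 * t ≤ -1) (hd' : c + 2 * t ≤ -2 ∨ 1 ≤ m)
    (h : Subsingleton (Coh.HH (CohB1.ProjSpace (m + 2) k) (twd E t) 0)) :
    ∃ j : CohB1.ProjSpace (m + 1) k ⟶ CohB1.ProjSpace (m + 2) k, IsClosedImmersion j ∧
      j ≫ CohB1.ProjSpace.toSpec (m + 2) k = CohB1.ProjSpace.toSpec (m + 1) k ∧
      Nonempty ((Scheme.Modules.pullback j).obj (Hl (m + 2) k) ≅ Hl (m + 1) k) ∧
      Subsingleton (Coh.HH (CohB1.ProjSpace (m + 1) k) (twd ((Scheme.Modules.pullback j).obj E) t) 0) := by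
  have hv₀ : form (Pi.single (0 : Fin (m + 2 + 1)) (1 : k)) ≠ 0 :=
    form_ne_zero fun h0 => by simpa using congrFun h0 0
  obtain ⟨j₀, hj₀, hjq₀, ⟨τ₀⟩, hker₀⟩ := exists_hyp k (m + 1) hv₀
  obtain ⟨N₀, hN₀⟩ := HyperH0.exists_vanish (n := m + 1) (by omega) (TFOneX.isFinLocFreeOfRank_pullback j₀ hE)
  suffices key : ∀ (i : ℕ) (t : ℤ), t ≤ -(N₀ : ℤ) + i → c + 2 * t ≤ -1 → (c + 2 * t ≤ -2 ∨ 1 ≤ m) →
      Subsingleton Γ(twd E t, ⊤) →
      ∃ (v : Γ(Hl (m + 2) k, ⊤)) (j : CohB1.ProjSpace (m + 1) k ⟶ CohB1.ProjSpace (m + 2) k),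
        v ≠ 0 ∧ IsClosedImmersion j ∧ j ≫ CohB1.ProjSpace.toSpec (m + 2) k = CohB1.ProjSpace.toSpec (m + 1) k ∧
        Nonempty ((Scheme.Modules.pullback j).obj (Hl (m + 2) k) ≅ Hl (m + 1) k) ∧
        j.ker = PicF2.zeroScheme (Hl (m + 2) k) (InvX.ofSect v) ∧
        Subsingleton Γ((Scheme.Modules.pullback j).obj (twd E t), ⊤) by
    obtain ⟨v, j, -, hj, hjq, ⟨τ⟩, -, hs⟩ := key (t + N₀).toNat t (by omega) hd hd' (HyperH0.subsingleton_sections h)
    obtain ⟨e⟩ := HyperH0.pullback_twist_free j ⟨τ⟩ (Iso.refl ((Scheme.Modules.pullback j).obj E)) t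
    exact ⟨j, hj, hjq, ⟨τ⟩, QCoh.subsingleton_HH_of_iso e 0 (HyperH0.subsingleton_HH0 hs)⟩
  intro i
  induction i with
  | zero =>
    intro t ht _ _ _
    haveI := hj₀
    obtain ⟨e⟩ := HyperH0.pullback_twist_free j₀ ⟨τ₀⟩ (Iso.refl ((Scheme.Modules.pullback j₀).obj E)) t
    refine ⟨_, j₀, hv₀, hj₀, hjq₀, ⟨τ₀⟩, hker₀, HyperH0.subsingleton_sections ?_⟩
    refine QCoh.subsingleton_HH_of_iso e.symm 0 ?_
    have := hN₀ (-t).toNat (by omega)
    rwa [show (-((-t).toNat : ℤ)) = t by omega] at this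
  | succ i ih =>
    intro t ht hd hd' h2
    let M₀ := twd E (t - 2)
    have hc1 : PicF.cl (CohB1.tensorMod M₀ (Hl (m + 2) k)) = PicF.cl (twd E (t - 1)) :=
      (cl_twd_succ E (t - 2)).trans (by rw [show t - 2 + 1 = t - 1 by ring])
    have hc2 : PicF.cl (CohB1.tensorMod (CohB1.tensorMod M₀ (Hl (m + 2) k)) (Hl (m + 2) k)) = PicF.cl (twd E t) := by
      rw [cl_tensor, hc1, ← cl_tensor, cl_twd_succ, show t - 1 + 1 = t by ring]
    have hM₀ : FlatMod.IsFinLocFree M₀ := H28.KvbModel.lf_of_rank (rank_twd hE _)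
    have h2' := subsingleton_of_cl hc2.symm h2
    have h1 : Subsingleton Γ(twd E (t - 1), ⊤) := subsingleton_untwist (H28.KvbModel.lf_of_rank (rank_twd hE _))
      (subsingleton_of_cl (show PicF.cl (twd E t) = PicF.cl (CohB1.tensorMod (twd E (t - 1)) (Hl (m + 2) k)) by
        rw [cl_twd_succ, show t - 1 + 1 = t by ring]) h2)
    obtain ⟨v, j, hv, hj, -, -, hker, hprev⟩ := ih (t - 1) (by push_cast at ht; omega) (by omega)
      (hd'.imp_left (fun h => by omega)) h1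
    obtain ⟨v', j', hv', hj', hjq', hτ', hker', hs⟩ := exists_hyp_vanish hM₀
      (SubLine.rank_of_cl hc2 (rank_twd hE t)) hd hd' (det_twd hE hdet hc2) h2'
      ⟨v, j, hv, hj, hker, subsingleton_pull_of_cl j hc1.symm hprev⟩
    exact ⟨v', j', hv', hj', hjq', hτ', hker', subsingleton_pull_of_cl j' hc2 hs⟩

theorem det_pullback {E : (CohB1.ProjSpace (m + 1) k).Modules} (hE : FlatMod.IsFinLocFreeOfRank 2 E) {c : ℤ}
    (hdet : ∃ L : (CohB1.ProjSpace (m + 1) k).Modules, ExtPow.IsExtPow 2 E L ∧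
      Nonempty (L ≅ Twist.twistProjSpace (m + 1) k c))
    (j : CohB1.ProjSpace m k ⟶ CohB1.ProjSpace (m + 1) k)
    (hτ : Nonempty ((Scheme.Modules.pullback j).obj (Hl (m + 1) k) ≅ Hl m k)) :
    ∃ L : (CohB1.ProjSpace m k).Modules, ExtPow.IsExtPow 2 ((Scheme.Modules.pullback j).obj E) L ∧
      Nonempty (L ≅ Twist.twistProjSpace m k c) := by
  obtain ⟨L, hL, ⟨e⟩⟩ := hdet
  obtain ⟨e'⟩ := cl_eq_iff.1 (show PicF.cl ((Scheme.Modules.pullback j).obj (Twist.twistProjSpace (m + 1) k c)) =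
    PnEuler.tw m k c from HyperH0.pullCl_O j hτ c)
  exact ⟨_, ExtPowPull.isExtPow_pullback j (QCoh.isQCoh_of_isFinLocFree (H28.KvbModel.lf_of_rank hE)) hL,
    ⟨(Scheme.Modules.pullback j).mapIso e ≪≫ e'⟩⟩

/-- A line without sections. -/
theorem exists_line : ∀ (n : ℕ), 1 ≤ n → ∀ {E : (CohB1.ProjSpace n k).Modules},
    FlatMod.IsFinLocFreeOfRank 2 E → ∀ {c t : ℤ},
    (∃ L : (CohB1.ProjSpace n k).Modules, ExtPow.IsExtPow 2 E L ∧ Nonempty (L ≅ Twist.twistProjSpace n k c)) →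
    c + 2 * t ≤ -2 → Subsingleton (Coh.HH (CohB1.ProjSpace n k) (twd E t) 0) →
    ∃ i : CohB1.ProjSpace 1 k ⟶ CohB1.ProjSpace n k, IsClosedImmersion i ∧
      i ≫ CohB1.ProjSpace.toSpec n k = CohB1.ProjSpace.toSpec 1 k ∧
      Nonempty ((Scheme.Modules.pullback i).obj (Twist.twistProjSpace n k 1) ≅ Twist.twistProjSpace 1 k 1) ∧
      Subsingleton (Coh.HH (CohB1.ProjSpace 1 k) (twd ((Scheme.Modules.pullback i).obj E) t) 0) := by
  intro n
  induction n with
  | zero => omega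
  | succ n ih =>
    intro hn E hE c t hdet hd h
    rcases Nat.eq_zero_or_pos n with rfl | hn'
    · refine ⟨𝟙 _, inferInstance, Category.id_comp _, ⟨(Scheme.Modules.pullbackId _).app _⟩, ?_⟩
      obtain ⟨e⟩ := cl_eq_iff.1 (show PicF.cl (twd E t) =
          PicF.cl (twd ((Scheme.Modules.pullback (𝟙 _)).obj E) t) by
        rw [cl_twd, cl_twd]
        exact congrArg (· * PnEuler.tw (0 + 1) k t)
          (cl_eq_iff.2 ⟨((Scheme.Modules.pullbackId (CohB1.ProjSpace (0 + 1) k)).app E)⟩).symm)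
      exact QCoh.subsingleton_HH_of_iso e 0 h
    obtain ⟨m, rfl⟩ : ∃ m, n = m + 1 := ⟨n - 1, by omega⟩
    obtain ⟨j, hj, hjq, ⟨τ⟩, hs⟩ := exists_hyperplane hE hdet (by omega) (Or.inl hd) h
    haveI := hj
    have hE' := TFOneX.isFinLocFreeOfRank_pullback j hE
    obtain ⟨i, hi, hiq, ⟨τi⟩, hsi⟩ := ih (by omega) hE' (det_pullback hE hdet j ⟨τ⟩) hd hs
    haveI := hi
    refine ⟨i ≫ j, inferInstance, by rw [Category.assoc, hjq, hiq],
      ⟨((Scheme.Modules.pullbackComp i j).app _).symm ≪≫ (Scheme.Modules.pullback i).mapIso τ ≪≫ τi⟩, ?_⟩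
    obtain ⟨e⟩ := cl_eq_iff.1 (show PicF.cl (twd ((Scheme.Modules.pullback i).obj ((Scheme.Modules.pullback j).obj E)) t) =
        PicF.cl (twd ((Scheme.Modules.pullback (i ≫ j)).obj E) t) by
      rw [cl_twd, cl_twd]
      exact congrArg (· * PnEuler.tw 1 k t) (cl_eq_iff.2 ⟨(Scheme.Modules.pullbackComp i j).app E⟩))
    exact QCoh.subsingleton_HH_of_iso e 0 hsi

/-- The splitting type on a line without sections. -/
theorem split_of_vanish {F : (CohB1.ProjSpace 1 k).Modules} (hF : FlatMod.IsFinLocFreeOfRank 2 F) {c k₀ : ℤ}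
    (hdet : ∃ L : (CohB1.ProjSpace 1 k).Modules, ExtPow.IsExtPow 2 F L ∧ Nonempty (L ≅ Twist.twistProjSpace 1 k c))
    (hk₀ : c + 2 * k₀ = 0 ∨ c + 2 * k₀ = -1)
    (h : Subsingleton (Coh.HH (CohB1.ProjSpace 1 k) (twd F (k₀ - 1)) 0)) :
    Nonempty (F ≅ Twist.twistProjSpace 1 k (-k₀) ⊞ Twist.twistProjSpace 1 k (c + k₀)) := by
  obtain ⟨d, ⟨-, ⟨e⟩⟩, -⟩ := Groth.Agent.S7797.result k 2 F hF
  let T : Fin 2 → (CohB1.ProjSpace 1 k).Modules := fun i => Twist.twistProjSpace 1 k (d i)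
  let e' : F ≅ T 0 ⊞ T 1 := e ≪≫ SubLine.two T
  have hb : ∀ i, d i ≤ -k₀ := fun i => by
    by_contra hlt
    fin_cases i
    · exact Rank2Pn.not_subsingleton_of_sub (H28.KvbModel.lf_of_rank hF) ((biprod.inl : T 0 ⟶ _) ≫ e'.inv)
        (show 0 ≤ d 0 + (k₀ - 1) by simp only [Fin.zero_eta] at hlt; omega) h
    · exact Rank2Pn.not_subsingleton_of_sub (H28.KvbModel.lf_of_rank hF) ((biprod.inr : T 1 ⟶ _) ≫ e'.inv)
        (show 0 ≤ d 1 + (k₀ - 1) by simp only [Fin.mk_one] at hlt; omega) h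
  have hsum : d 0 + d 1 = c := by
    obtain ⟨U, hU, hU1, hU2, hU3⟩ := SubLine.exists_ses (SubLine.shortExact_biprod (T 0) (T 1))
      (Rank2Pn.rank_O (d 0)) (H28.KvbModel.lf_of_rank (Rank2Pn.rank_O (d 1)))
    have hz : IsZero U.X₃ := by
      obtain ⟨e3⟩ := cl_eq_iff.1 hU3
      exact (H28.KvbModel.isZero_L (Rank2Pn.rank_O (n := 1) (k := k) (d 1)) one_lt_two).of_iso e3
    haveI := hU.mono_f
    haveI : Epi U.f := hU.exact.epi_f (hz.eq_of_tgt _ _)
    haveI := isIso_of_mono_of_epi U.f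
    obtain ⟨L, hL, hLc⟩ := hdet
    obtain ⟨ec⟩ := Rank2Pn.cl_det (SubLine.rank_biprod (Rank2Pn.rank_O (d 0)) (Rank2Pn.rank_O (d 1)))
      ⟨L, ExtPowPull.isExtPow_of_iso e' hL, hLc⟩
    refine Serre2.twist_inj (k := k) ((PnEuler.tw_add 1 k (d 0) (d 1)).symm.trans ?_)
    exact hU1.symm.trans ((cl_eq_iff.2 ⟨asIso U.f⟩).trans (hU2.trans (cl_eq_iff.2 ⟨ec.symm⟩)))
  have h0 := hb 0
  have h1 := hb 1
  have hcase : (d 0 = -k₀ ∧ d 1 = c + k₀) ∨ (d 0 = c + k₀ ∧ d 1 = -k₀) := by omega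
  rcases hcase with ⟨p, q⟩ | ⟨p, q⟩
  · exact ⟨e' ≪≫ biprod.mapIso (eqToIso (by simp only [T, p])) (eqToIso (by simp only [T, q]))⟩
  · exact ⟨e' ≪≫ biprod.mapIso (eqToIso (by simp only [T, p])) (eqToIso (by simp only [T, q])) ≪≫ biprod.braiding _ _⟩

end Groth.Agent.H28.GM

namespace Groth.Agent.H28.GM

open Groth.Agent Groth.Agent.Synt29 Groth.Agent.H23.PicMul

/-- Semistability implies the vanishing used on lines. -/
theorem vanish_normalised {k : Type u} [Field k] [IsAlgClosed k] [CharZero k] {n : ℕ}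
    {E : (CohB1.ProjSpace n k).Modules} (hE : FlatMod.IsFinLocFreeOfRank 2 E)
    {c k₀ : ℤ} (hk₀ : c + 2 * k₀ = 0 ∨ c + 2 * k₀ = -1)
    (hss : Subsingleton (Coh.HH (CohB1.ProjSpace n k)
      (CohB1.tensorMod E (Twist.twistProjSpace n k (-(c + k₀ + 1)))) 0)) :
    Subsingleton (Coh.HH (CohB1.ProjSpace n k) (twd E (k₀ - 1)) 0) := by
  rcases hk₀ with h | h
  · rw [show k₀ - 1 = -(c + k₀ + 1) by omega]
    exact hss
  · haveI : QuasiSeparated (CohB1.ProjSpace.toSpec n k) := by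
      haveI := PnCoh.Chow.isProper_toSpec n k
      infer_instance
    refine HyperH0.subsingleton_HH0 (subsingleton_untwist (H28.KvbModel.lf_of_rank (rank_twd hE _)) ?_)
    refine subsingleton_of_cl (M := twd E (-(c + k₀ + 1))) ?_ (HyperH0.subsingleton_sections hss)
    rw [cl_twd_succ, show k₀ - 1 + 1 = -(c + k₀ + 1) by omega]

end Groth.Agent.H28.GM
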