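import Groth.Agent.H28.GM.Seq
import Groth.Agent.Synt29.SubLine

/-!
# A bundle of rank two with a section and negative determinant
-/

set_option autoImplicit false
set_option backward.isDefEq.respectTransparency false
set_option backward.isDefEq.respectTransparency.types false
set_option linter.style.haveILetI false
set_option linter.unusedSectionVars false
set_option maxHeartbeats 1000000
set_option synthInstance.maxHeartbeats 400000

universe u

open CategoryTheory CategoryTheory.Limits AlgebraicGeometry TopologicalSpace Opposite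
open scoped Groth.Agent.H23.PicMul

noncomputable section

namespace Groth.Agent.H28.GM

open Groth.Agent Groth.Agent.Synt29 Groth.Agent.H23.PicMul Groth.Agent.AModX

section Wedge

variable {X : Scheme.{u}} {F : X.Modules}

/-- Wedging with a section. -/
def wedgeSec (σ : Γ(F, ⊤)) : F ⟶ ExtBase.L F 2 :=
  ⟨PresheafOfModules.homMk
    { app := fun V => AddCommGrpCat.ofHom
        ((ExtBase.mu F 2 V.unop).toMultilinearMap.toLinearMap
          ![res F (le_top : V.unop ≤ ⊤) σ, 0] 1).toAddMonoidHom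
      naturality := fun V V' i => by
        ext a
        show ExtBase.mu F 2 V'.unop (Function.update ![res F le_top σ, 0] 1 (res F i.unop.le a)) =
          res (ExtBase.L F 2) i.unop.le (ExtBase.mu F 2 V.unop (Function.update ![res F le_top σ, 0] 1 a))
        rw [ExtBase.mu_res]
        congr 1
        funext l
        fin_cases l
        · exact (res_res (le_top : V.unop ≤ ⊤) i.unop.le σ).symm
        · simp }
    fun V r a => ((ExtBase.mu F 2 V.unop).toMultilinearMap.toLinearMap ![res F le_top σ, 0] 1).map_smul r a⟩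

theorem wedgeSec_app (σ : Γ(F, ⊤)) (U : X.Opens) (v : Γ(F, U)) :
    (wedgeSec σ).app U v = ExtBase.mu F 2 U ![res F le_top σ, v] := by
  show ExtBase.mu F 2 U (Function.update ![res F le_top σ, 0] 1 v) = _
  congr 1
  funext l
  fin_cases l <;> simp

theorem ofSect_wedgeSec (σ : Γ(F, ⊤)) : InvX.ofSect σ ≫ wedgeSec σ = 0 := by
  refine Scheme.Modules.hom_ext _ _ fun U => AddCommGrpCat.hom_ext (AddMonoidHom.ext fun a => ?_)
  show (wedgeSec σ).app U ((show Γ(X, U) from a) • res F (le_top : U ≤ ⊤) σ) = 0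
  rw [Scheme.Modules.Hom.app_smul, wedgeSec_app,
    (ExtBase.mu F 2 U).map_eq_zero_of_eq _ (i := 0) (j := 1) rfl (by decide)]
  exact smul_zero _

theorem wedgeSec_ne_zero (hF : FlatMod.IsFinLocFreeOfRank 2 F) {σ : Γ(F, ⊤)} (hσ : σ ≠ 0) :
    wedgeSec σ ≠ 0 := by
  intro h0
  refine hσ (AModX.eq_of_locally _ _ fun p _ => ?_)
  obtain ⟨V, hpV, ⟨eV⟩⟩ := hF p
  obtain ⟨e, he⟩ := H23.Frame.exists_frame eV
  refine ⟨V, le_top, hpV, ?_⟩
  rw [map_zero]
  obtain ⟨c, hc⟩ := (he V le_rfl).2 (res F le_top σ)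
  have hc' : res F (le_top : V ≤ ⊤) σ = c 0 • e 0 + c 1 • e 1 := by
    rw [← hc]
    show ∑ i, c i • AModX.res F le_rfl (e i) = _
    rw [Fin.sum_univ_two, res_self, res_self]
  have hw : ∀ v : Γ(F, V), ExtBase.mu F 2 V ![c 0 • e 0 + c 1 • e 1, v] = 0 := fun v => by
    rw [← hc', ← wedgeSec_app, h0]
    rfl
  let A := ExtBase.mu F 2 V
  have hu : ∀ v z : Γ(F, V), ![v, z] = Function.update ![e 0, z] 0 v := fun v z => by
    funext l; fin_cases l <;> simp
  have hexp : ∀ z, A ![c 0 • e 0 + c 1 • e 1, z] = c 0 • A ![e 0, z] + c 1 • A ![e 1, z] := fun z => by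
    rw [hu, hu (e 0), hu (e 1), AlternatingMap.map_update_add, AlternatingMap.map_update_smul,
      AlternatingMap.map_update_smul]
    simp only [Function.update_idem]
  have hdiag : ∀ v, A ![v, v] = 0 := fun v => A.map_eq_zero_of_eq _ (i := 0) (j := 1) rfl (by decide)
  have hfr := fun (r : Γ(X, V)) => show r • ExtBase.mu F 2 V e = 0 → r = 0 from fun h => by
    refine ((ExtBase.isFrame_wedge he) V le_rfl).1 ?_
    show r • res _ le_rfl _ = (0 : Γ(X, V)) • res _ le_rfl _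
    rw [res_self, zero_smul, h]
  have hev : e = ![e 0, e 1] := funext fun l => by fin_cases l <;> rfl
  have hswap : A ![e 1, e 0] = -A e := by
    rw [← A.map_swap e (show (0 : Fin 2) ≠ 1 by decide)]
    exact congrArg A (funext fun l => by fin_cases l <;> rfl)
  have h0' : c 0 = 0 := hfr _ (by
    have := hw (e 1)
    rw [hexp, hdiag, smul_zero, add_zero, ← hev] at this
    exact this)
  have h1' : c 1 = 0 := hfr _ (by
    have := hw (e 0)
    rw [hexp, hdiag, smul_zero, zero_add, hswap, smul_neg, neg_eq_zero] at this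
    exact this)
  rw [hc', h0', h1', zero_smul, zero_smul, add_zero]

end Wedge

variable {m : ℕ} {k : Type u} [Field k] [IsAlgClosed k]

local notation "P" => CohB1.ProjSpace m k
local notation "O1" => Twist.twistProjSpace m k 1

local instance : (CohB1.ProjSpace m k).Over (Spec (CommRingCat.of k)) :=
  ⟨CohB1.ProjSpace.toSpec m k⟩

local instance : QuasiSeparated (CohB1.ProjSpace.toSpec m k) := by
  haveI := PnCoh.Chow.isProper_toSpec m k
  infer_instance

local instance : IsIntegral (CohB1.ProjSpace m k) := H23.PnChart.isIntegral_projSpace m k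

local instance : IsLocallyNoetherian (CohB1.ProjSpace m k) :=
  PnCoh.Finite.isLocallyNoetherian_projSpace m k

local instance ufd : ∀ x : CohB1.ProjSpace m k, UniqueFactorizationMonoid ((CohB1.ProjSpace m k).presheaf.stalk x) :=
  fun x => by
    haveI := LefPenLib.smooth_toSpec m k
    haveI := SmoothReg.isRegularLocalRing_stalk_of_mem_smoothLocus (CohB1.ProjSpace.toSpec m k) (x := x)
      (by rw [(CohB1.ProjSpace.toSpec m k).smoothLocus_eq_top]; trivial)
    exact (Groth.Agent.S2821.result _).2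

theorem eq_of_one {X : Scheme.{u}} {M : X.Modules} {φ ψ : Coh.structureModule X ⟶ M}
    (h : InvX.one φ = InvX.one ψ) : φ = ψ :=
  RegEpi.hom_eq_of_one_eq φ ψ h

theorem nonempty_O_zero : Nonempty (Rank2Pn.O (n := m) (k := k) 0 ≅ Coh.structureModule P) :=
  cl_eq_iff.1 ((PnEuler.tw_zero m k).trans one_def)

theorem finrank_h0 : Module.finrank k (Coh.HH P (Coh.structureModule P) 0) = 1 := by
  obtain ⟨e⟩ := nonempty_O_zero (m := m) (k := k)
  rw [← (RegDescent.HHequiv (k := k) e 0).finrank_eq]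
  exact ((PnBott.h0_line m k 0).2).trans (by simp)

/-- Nonzero endomorphisms of the structure module are isomorphisms. -/
theorem isIso_endo (φ : Coh.structureModule P ⟶ Coh.structureModule P) (hφ : φ ≠ 0) : IsIso φ := by
  obtain ⟨z, rfl⟩ := Syzygy.endo_eq_smul_id (k := k) finrank_h0 φ
  have hz0 : z ≠ 0 := fun h => hφ (by rw [h, zero_smul])
  refine ⟨z⁻¹ • 𝟙 _, ?_, ?_⟩
  · rw [Linear.smul_comp, Linear.comp_smul, Category.id_comp, smul_smul, mul_inv_cancel₀ hz0, one_smul]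
  · rw [Linear.smul_comp, Linear.comp_smul, Category.id_comp, smul_smul, inv_mul_cancel₀ hz0, one_smul]

/-- A map from the structure module to a negative twist is zero. -/
theorem le_of_hom {a : ℤ} (hm : m ≠ 0) (f : Coh.structureModule P ⟶ Rank2Pn.O a) (hf : f ≠ 0) : 0 ≤ a := by
  obtain ⟨e⟩ := nonempty_O_zero (m := m) (k := k)
  exact Rank2Pn.le_of_ne_zero hm (e.hom ≫ f) fun h => hf ((cancel_epi e.hom).1 (h.trans comp_zero.symm))

theorem cl_untwist (F₀ : (CohB1.ProjSpace m k).Modules) :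
    PicF.cl (CohB1.tensorMod F₀ O1) * PnEuler.tw m k (-1) = PicF.cl F₀ := by
  rw [cl_tensor, mul_assoc]
  show PicF.cl F₀ * (PnEuler.tw m k 1 * PnEuler.tw m k (-1)) = _
  rw [PnEuler.tw_add, add_neg_cancel, PnEuler.tw_zero, mul_one]

/-- A section gives a left exact sequence `O ⟶ F ⟶ O(d)`. -/
theorem exists_exact (hm : 1 ≤ m) {F₀ : (CohB1.ProjSpace m k).Modules}
    (hF : FlatMod.IsFinLocFreeOfRank 2 (CohB1.tensorMod F₀ O1)) {d : ℤ}
    (hdet : ∃ L : (CohB1.ProjSpace m k).Modules, ExtPow.IsExtPow 2 (CohB1.tensorMod F₀ O1) L ∧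
      Nonempty (L ≅ Rank2Pn.O d))
    (h0 : Subsingleton Γ(F₀, ⊤)) {σ : Γ(CohB1.tensorMod F₀ O1, ⊤)} (hσ : σ ≠ 0) :
    ∃ (ψ : CohB1.tensorMod F₀ O1 ⟶ Rank2Pn.O d) (w : InvX.ofSect σ ≫ ψ = 0),
      (ShortComplex.mk (InvX.ofSect σ) ψ w).Exact ∧ Mono (InvX.ofSect σ) := by
  have hm0 : m ≠ 0 := by omega
  obtain ⟨ec⟩ := Rank2Pn.cl_det hF hdet
  let F₁ := CohB1.tensorMod F₀ O1
  let s : Coh.structureModule P ⟶ F₁ := InvX.ofSect σ
  have hs : s ≠ 0 := ofSect_ne_zero hσ
  let ψ : F₁ ⟶ Rank2Pn.O d := wedgeSec σ ≫ ec.inv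
  have hψ : ψ ≠ 0 := fun h => wedgeSec_ne_zero hF hσ
    ((cancel_mono ec.inv).1 (h.trans zero_comp.symm))
  have hsψ : s ≫ ψ = 0 := by
    show InvX.ofSect σ ≫ wedgeSec σ ≫ ec.inv = 0
    rw [← Category.assoc, ofSect_wedgeSec, zero_comp]
  have hnm : ¬ Mono ψ := fun _ => hs ((cancel_mono ψ).1 (hsψ.trans zero_comp.symm))
  have hK := Rank2.rank_kernel hF (SubLine.lf (Rank2Pn.rank_O d)) ψ hψ hnm
  obtain ⟨a, ⟨ea⟩⟩ := Rank2Pn.exists_iso_O hK
  obtain ⟨e0⟩ := nonempty_O_zero (m := m) (k := k)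
  let t : Coh.structureModule P ⟶ kernel ψ := kernel.lift ψ s hsψ
  have hts : t ≫ kernel.ι ψ = s := kernel.lift_ι _ _ _
  have ht : t ≠ 0 := fun h => hs (by rw [← hts, h, zero_comp])
  have hta : t ≫ ea.hom ≠ 0 := fun h => ht ((cancel_mono ea.hom).1 (h.trans zero_comp.symm))
  have ha0 : 0 ≤ a := le_of_hom hm0 _ hta
  have ha : a = 0 := by
    by_contra hne
    obtain ⟨f, hf⟩ := Rank2Pn.exists_ne_zero (n := m) (k := k) (show (1 : ℤ) ≤ a by omega)
    have hz : f ≫ ea.inv ≫ kernel.ι ψ = 0 := PnRigid.hom_twist_eq_zero (n := m) (k := k) 1 _ fun M hM => by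
      obtain ⟨e⟩ := cl_eq_iff.1 (show PicF.cl M = PicF.cl F₀ from hM.trans (cl_untwist F₀))
      exact QCoh.subsingleton_HH_of_iso e.symm 0 (HyperH0.subsingleton_HH0 h0)
    exact hf ((cancel_mono (ea.inv ≫ kernel.ι ψ)).1 (hz.trans zero_comp.symm))
  subst ha
  haveI : IsIso ((t ≫ ea.hom) ≫ e0.hom) := isIso_endo _ fun h => hta ((cancel_mono e0.hom).1 (h.trans zero_comp.symm))
  haveI : IsIso (t ≫ ea.hom) := IsIso.of_isIso_comp_right (t ≫ ea.hom) e0.hom
  haveI : IsIso t := IsIso.of_isIso_comp_right t ea.hom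
  refine ⟨ψ, hsψ, ShortComplex.exact_of_f_is_kernel _
    (IsLimit.ofIsoLimit (kernelIsKernel ψ) (Fork.ext (asIso t).symm ?_)), ?_⟩
  · show inv t ≫ s = kernel.ι ψ
    rw [IsIso.inv_comp_eq, hts]
  · show Mono s
    rw [← hts]
    infer_instance

/-- The sections are the multiples of the given one. -/
theorem sections_of_exact (hm : 1 ≤ m) {F : (CohB1.ProjSpace m k).Modules} {d : ℤ} (hd : d ≤ -1) {σ : Γ(F, ⊤)}
    (ψ : F ⟶ Rank2Pn.O d) (w : InvX.ofSect σ ≫ ψ = 0) (hS : (ShortComplex.mk (InvX.ofSect σ) ψ w).Exact)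
    [Mono (InvX.ofSect σ)] (u : Γ(F, ⊤)) :
    ∃ a : k, u = (ProjUP.toGlobal (CohB1.ProjSpace.toSpec m k) a • σ : Γ(F, ⊤)) := by
  haveI : Mono (ShortComplex.mk (InvX.ofSect σ) ψ w).f := ‹Mono (InvX.ofSect σ)›
  have hu : InvX.ofSect u ≫ ψ = 0 := by
    by_contra hne
    have := le_of_hom (show m ≠ 0 by omega) _ hne
    omega
  obtain ⟨z, hz⟩ := Syzygy.endo_eq_smul_id (k := k) finrank_h0 (hS.lift (InvX.ofSect u) hu)
  refine ⟨z, ?_⟩
  have h0 : hS.lift (InvX.ofSect u) hu ≫ InvX.ofSect σ = InvX.ofSect u := hS.lift_f _ hu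
  rw [hz, Linear.smul_comp, Category.id_comp] at h0
  have h1 := congrArg InvX.one h0
  rw [InvX.one_ofSect] at h1
  rw [← h1]
  refine (KLin.smul_app_apply z (InvX.ofSect σ) ⊤ _).trans ?_
  show resR le_rfl _ • InvX.one (InvX.ofSect σ) = _
  rw [InvX.one_ofSect, resR_self]
  rfl

theorem one_comp {X : Scheme.{u}} {M N : X.Modules} (φ : Coh.structureModule X ⟶ M) (f : M ⟶ N) :
    InvX.one (φ ≫ f) = f.app ⊤ (InvX.one φ) := rfl

theorem one_zero {X : Scheme.{u}} {M : X.Modules} : InvX.one (0 : Coh.structureModule X ⟶ M) = 0 := rfl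

/-- Twisting on the right by `O(1)`. -/
abbrev tw1 : (CohB1.ProjSpace m k).Modules ⥤ (CohB1.ProjSpace m k).Modules := DCoh.tensorBi.flip.obj O1

/-- The sections of the twist, when none maps nontrivially. -/
theorem sections_twist {F : (CohB1.ProjSpace m k).Modules} {d : ℤ} {σ : Γ(F, ⊤)}
    (ψ : F ⟶ Rank2Pn.O d) (w : InvX.ofSect σ ≫ ψ = 0) (hS : (ShortComplex.mk (InvX.ofSect σ) ψ w).Exact)
    [Mono (InvX.ofSect σ)] (u : Γ(CohB1.tensorMod F O1, ⊤)) (hu0 : InvX.ofSect u ≫ (tw1 (m := m) (k := k)).map ψ = 0) :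
    ∃ v : Γ(O1, ⊤), u = InvX.tmul σ v := by
  let G := tw1 (m := m) (k := k)
  haveI : G.IsEquivalence := SubLine.isEquivalence_twist (n := m) (k := k) 1
  haveI : G.Additive := Functor.additive_of_preserves_binary_products _
  haveI : Mono ((ShortComplex.mk (InvX.ofSect σ) ψ w).map G).f := inferInstanceAs (Mono (G.map (InvX.ofSect σ)))
  have hSG := hS.map G
  let l : Coh.structureModule P ⟶ G.obj (Coh.structureModule P) := hSG.lift (InvX.ofSect u) hu0
  obtain ⟨v, hv⟩ := (H28.Box.bijective_tmul_frame (N := O1)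
    (InvX.isFrame_one (⊤ : (CohB1.ProjSpace m k).Opens))).2 (InvX.one l)
  refine ⟨v, ?_⟩
  have h1 : l ≫ G.map (InvX.ofSect σ) = InvX.ofSect u := hSG.lift_f _ _
  have h2 := congrArg InvX.one h1
  rw [InvX.one_ofSect, one_comp, ← hv] at h2
  rw [← h2]
  refine (KFlatLib.tmSh_naturality_left (InvX.ofSect σ) O1 (U := (⊤ : (CohB1.ProjSpace m k).Opens))
    (show Γ(Coh.structureModule P, ⊤) from (1 : Γ(P, ⊤))) v).trans ?_
  exact congrArg (fun z => InvX.tmul z v) (InvX.one_ofSect σ)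

/-- The split case. -/
theorem subsingleton_of_twist (hm : 2 ≤ m) {F F₀ : (CohB1.ProjSpace m k).Modules}
    (hcl : PicF.cl F * PnEuler.tw m k (-1) = PicF.cl F₀) {σ : Γ(F, ⊤)}
    (ψ : F ⟶ Rank2Pn.O (-1)) (w : InvX.ofSect σ ≫ ψ = 0)
    (hS : (ShortComplex.mk (InvX.ofSect σ) ψ w).Exact)
    [Mono (InvX.ofSect σ)] (φ : Coh.structureModule P ⟶ (tw1 (m := m) (k := k)).obj F)
    (hne : φ ≫ (tw1 (m := m) (k := k)).map ψ ≠ 0) :
    Subsingleton (Coh.HH P F₀ 1) := by
  let G := tw1 (m := m) (k := k)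
  haveI : G.IsEquivalence := SubLine.isEquivalence_twist (n := m) (k := k) 1
  obtain ⟨e1⟩ := cl_eq_iff.1 (show PicF.cl (G.obj (Rank2Pn.O (-1))) = PicF.cl (Coh.structureModule P) by
    rw [show PicF.cl (G.obj (Rank2Pn.O (-1))) = _ from cl_tensor _ _, ← one_def, ← PnEuler.tw_zero m k]
    exact PnEuler.tw_add m k (-1) 1)
  haveI : IsIso ((φ ≫ G.map ψ) ≫ e1.hom) :=
    isIso_endo _ fun h => hne ((cancel_mono e1.hom).1 (h.trans zero_comp.symm))
  haveI : Epi (G.map ψ ≫ e1.hom) := by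
    haveI : Epi (φ ≫ G.map ψ ≫ e1.hom) := by rw [← Category.assoc]; infer_instance
    exact epi_of_epi φ _
  haveI : Epi (G.map ψ) := by
    have : Epi ((G.map ψ ≫ e1.hom) ≫ e1.inv) := inferInstance
    rwa [Category.assoc, Iso.hom_inv_id, Category.comp_id] at this
  haveI : Epi ψ := G.epi_of_epi_map inferInstance
  let S : ShortComplex (CohB1.ProjSpace m k).Modules := ShortComplex.mk (InvX.ofSect σ) ψ w
  haveI : Mono S.f := ‹Mono (InvX.ofSect σ)›
  haveI : Epi S.g := ‹Epi ψ›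
  have hSE : S.ShortExact := { exact := hS }
  let G' := DCoh.tensorBi.flip.obj (Rank2Pn.O (n := m) (k := k) (-1))
  haveI : G'.Additive := Functor.additive_of_preserves_binary_products _
  have hT := SubLine.shortExact_twist (n := m) (k := k) (-1) hSE
  obtain ⟨f1⟩ := cl_eq_iff.1 (show PicF.cl (S.map G').X₁ = PnEuler.tw m k (-1) by
    show PicF.cl (CohB1.tensorMod (Coh.structureModule P) (Rank2Pn.O (-1))) = _
    rw [cl_tensor, ← one_def, one_mul])
  obtain ⟨f3⟩ := cl_eq_iff.1 (show PicF.cl (S.map G').X₃ = PnEuler.tw m k (-2) by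
    show PicF.cl (CohB1.tensorMod (Rank2Pn.O (-1)) (Rank2Pn.O (-1))) = _
    rw [cl_tensor]
    exact PnEuler.tw_add m k (-1) (-1))
  obtain ⟨f2⟩ := cl_eq_iff.1 (show PicF.cl (S.map G').X₂ = PicF.cl F₀ from
    (cl_tensor F (Rank2Pn.O (-1))).trans hcl)
  exact QCoh.subsingleton_HH_of_iso f2 1 (QCoh.subsingleton_HH_X₂ hT 1
    (QCoh.subsingleton_HH_of_iso f1.symm 1 (Groth.Agent.S0844.result k m _ 1 (fun h => by omega) (fun h => by omega)))
    (QCoh.subsingleton_HH_of_iso f3.symm 1 (Groth.Agent.S0844.result k m _ 1 (fun h => by omega) (fun h => by omega))))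

/-- Either all sections of the twist come from the given one, or the first cohomology of the untwist vanishes. -/
theorem twist_dichotomy (hm : 1 ≤ m) {F F₀ : (CohB1.ProjSpace m k).Modules}
    (hcl : PicF.cl F * PnEuler.tw m k (-1) = PicF.cl F₀) {d : ℤ} (hd : d ≤ -1) (hd' : d ≤ -2 ∨ 2 ≤ m)
    {σ : Γ(F, ⊤)} (ψ : F ⟶ Rank2Pn.O d) (w : InvX.ofSect σ ≫ ψ = 0)
    (hS : (ShortComplex.mk (InvX.ofSect σ) ψ w).Exact) [Mono (InvX.ofSect σ)] :
    Subsingleton (Coh.HH P F₀ 1) ∨ ∀ u : Γ(CohB1.tensorMod F O1, ⊤), ∃ v : Γ(O1, ⊤), u = InvX.tmul σ v := by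
  by_cases hsplit : ∀ φ : Coh.structureModule P ⟶ (tw1 (m := m) (k := k)).obj F,
      φ ≫ (tw1 (m := m) (k := k)).map ψ = 0
  · exact Or.inr fun u => sections_twist ψ w hS u (hsplit (InvX.ofSect u))
  · push Not at hsplit
    obtain ⟨φ, hφ⟩ := hsplit
    obtain ⟨eG⟩ := cl_eq_iff.1 (show PicF.cl ((tw1 (m := m) (k := k)).obj (Rank2Pn.O d)) = PnEuler.tw m k (d + 1) by
      rw [show PicF.cl ((tw1 (m := m) (k := k)).obj (Rank2Pn.O d)) = _ from cl_tensor _ _]
      exact PnEuler.tw_add m k d 1)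
    have hd1 : 0 ≤ d + 1 := le_of_hom (show m ≠ 0 by omega) ((φ ≫ (tw1 (m := m) (k := k)).map ψ) ≫ eG.hom)
      fun h => hφ ((cancel_mono eG.hom).1 (h.trans zero_comp.symm))
    obtain rfl : d = -1 := by omega
    exact Or.inl (subsingleton_of_twist (by rcases hd' with h | h <;> omega) hcl ψ w hS φ hφ)

/-- The structure of a rank two bundle with a section and negative determinant. -/
theorem structure_of_section (hm : 1 ≤ m) {F₀ : (CohB1.ProjSpace m k).Modules}
    (hF : FlatMod.IsFinLocFreeOfRank 2 (CohB1.tensorMod F₀ O1)) {d : ℤ}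
    (hdet : ∃ L : (CohB1.ProjSpace m k).Modules, ExtPow.IsExtPow 2 (CohB1.tensorMod F₀ O1) L ∧
      Nonempty (L ≅ Rank2Pn.O d))
    (hd : d ≤ -1) (hd' : d ≤ -2 ∨ 2 ≤ m) (h0 : Subsingleton Γ(F₀, ⊤))
    {σ : Γ(CohB1.tensorMod F₀ O1, ⊤)} (hσ : σ ≠ 0) :
    (∀ u : Γ(CohB1.tensorMod F₀ O1, ⊤), ∃ a : k,
      u = (ProjUP.toGlobal (CohB1.ProjSpace.toSpec m k) a • σ : Γ(CohB1.tensorMod F₀ O1, ⊤))) ∧
    (Subsingleton (Coh.HH P F₀ 1) ∨
      ∀ u : Γ(CohB1.tensorMod (CohB1.tensorMod F₀ O1) O1, ⊤), ∃ v : Γ(O1, ⊤), u = InvX.tmul σ v) := by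
  obtain ⟨ψ, w, hS, hmono⟩ := exists_exact hm hF hdet h0 hσ
  haveI := hmono
  exact ⟨sections_of_exact hm hd ψ w hS, twist_dichotomy hm (cl_untwist F₀) hd hd' ψ w hS⟩

end Groth.Agent.H28.GM
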