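import Groth.Agent.H28.GM.Sections
import Groth.Agent.H28.GM.Rank2

/-!
# Linear forms on projective spaces and their restrictions to hyperplanes
-/

set_option autoImplicit false
set_option backward.isDefEq.respectTransparency false
set_option backward.isDefEq.respectTransparency.types false
set_option linter.style.haveILetI false
set_option linter.unusedSectionVars false
set_option maxHeartbeats 1000000
set_option synthInstance.maxHeartbeats 400000

universe u

open CategoryTheory CategoryTheory.Limits AlgebraicGeometry TopologicalSpace Opposite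
open scoped Groth.Agent.H23.PicMul

noncomputable section

namespace Groth.Agent.H28.GM

open Groth.Agent Groth.Agent.Synt29 Groth.Agent.H23.PicMul Groth.Agent.AModX

variable {m : ℕ} {k : Type u} [Field k] [IsAlgClosed k]

local instance over_ : ∀ m : ℕ, (CohB1.ProjSpace m k).Over (Spec (CommRingCat.of k)) := fun m =>
  ⟨CohB1.ProjSpace.toSpec m k⟩

local instance qs : ∀ m : ℕ, QuasiSeparated (CohB1.ProjSpace.toSpec m k) := fun m => by
  haveI := PnCoh.Chow.isProper_toSpec m k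
  infer_instance

local instance integral_ : ∀ m : ℕ, IsIntegral (CohB1.ProjSpace m k) := fun m =>
  H23.PnChart.isIntegral_projSpace m k

local instance noeth_ : ∀ m : ℕ, IsLocallyNoetherian (CohB1.ProjSpace m k) := fun m =>
  PnCoh.Finite.isLocallyNoetherian_projSpace m k

/-- `O(1)` on `P^m`. -/
abbrev Hl (m : ℕ) (k : Type u) [Field k] : (CohB1.ProjSpace m k).Modules := Twist.twistProjSpace m k 1

theorem isInvertible_Hl (m : ℕ) : PicF.IsInvertible (Hl m k) := PnEuler.isInvertible_O m k 1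

theorem lf_O (m : ℕ) : FlatMod.IsFinLocFree (Coh.structureModule (CohB1.ProjSpace m k)) :=
  H28.KvbModel.lf_of_rank (InvEnd.isFinLocFreeOfRank_one InvX.isInvertible_structureModule)

theorem pullSec_smul {X Y : Scheme.{u}} (j : X ⟶ Y) (M : Y.Modules) (qY : Y ⟶ Spec (CommRingCat.of k))
    (qX : X ⟶ Spec (CommRingCat.of k)) (hq : j ≫ qY = qX) (a : k) (s : Γ(M, ⊤)) :
    ProjUP.pullSec j M (ProjUP.toGlobal qY a • s : Γ(M, ⊤)) =
      (ProjUP.toGlobal qX a • (ProjUP.pullSec j M s : Γ((Scheme.Modules.pullback j).obj M, ⊤)) :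
        Γ((Scheme.Modules.pullback j).obj M, ⊤)) := by
  subst hq
  exact HyperplaneLib.pullSec_smul' j M _ _

theorem pullTensor_tmul {X Y : Scheme.{u}} (j : X ⟶ Y) (M N : Y.Modules) (a : Γ(M, ⊤)) (b : Γ(N, ⊤)) :
    (KFlatLib.pullTensorHom j M N).app ⊤ (ProjUP.pullSec j (CohB1.tensorMod M N) (InvX.tmul a b)) =
      InvX.tmul (ProjUP.pullSec j M a) (ProjUP.pullSec j N b) :=
  KFlatLib.pullTensorHom_pb j M N (U := (⊤ : Y.Opens)) a b

theorem tmul_zero_r {X : Scheme.{u}} {M N : X.Modules} {U : X.Opens} (a : Γ(M, U)) :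
    InvX.tmul a (0 : Γ(N, U)) = 0 := by
  have h := H28.Box.tmul_add_r a (0 : Γ(N, U)) 0
  rw [add_zero] at h
  exact left_eq_add.1 h

theorem tmul_zero_l {X : Scheme.{u}} {M N : X.Modules} {U : X.Opens} (b : Γ(N, U)) :
    InvX.tmul (0 : Γ(M, U)) b = 0 := by
  have h := H28.Box.tmul_add_l (0 : Γ(M, U)) 0 b
  rw [add_zero] at h
  exact left_eq_add.1 h

theorem endo_one (r : Γ(Coh.structureModule (CohB1.ProjSpace m k), ⊤)) : ∃ a : k,
    r = (ProjUP.toGlobal (CohB1.ProjSpace.toSpec m k) a • (show Γ(Coh.structureModule (CohB1.ProjSpace m k), ⊤)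
      from (1 : Γ(CohB1.ProjSpace m k, ⊤))) : Γ(Coh.structureModule (CohB1.ProjSpace m k), ⊤)) := by
  obtain ⟨z, hz⟩ := Syzygy.endo_eq_smul_id (k := k) finrank_h0 (InvX.ofSect r)
  refine ⟨z, ?_⟩
  rw [← InvX.one_ofSect r, hz]
  refine (KLin.smul_app_apply z (𝟙 (Coh.structureModule (CohB1.ProjSpace m k))) ⊤ _).trans ?_
  show resR (X := CohB1.ProjSpace m k) (le_rfl : (⊤ : (CohB1.ProjSpace m k).Opens) ≤ ⊤) _ • _ = _
  rw [resR_self]
  rfl

theorem tmul_one_bijective (m : ℕ) :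
    Function.Bijective fun a : Γ(Hl m k, ⊤) => InvX.tmul (M := Coh.structureModule (CohB1.ProjSpace m k))
      (show Γ(Coh.structureModule (CohB1.ProjSpace m k), ⊤) from (1 : Γ(CohB1.ProjSpace m k, ⊤))) a :=
  H28.Box.bijective_tmul_frame (InvX.isFrame_one (⊤ : (CohB1.ProjSpace m k).Opens))

variable {v : Γ(Hl (m + 1) k, ⊤)} (j : CohB1.ProjSpace m k ⟶ CohB1.ProjSpace (m + 1) k) [IsClosedImmersion j]

theorem seqO (hv : v ≠ 0) (hker : j.ker = PicF2.zeroScheme (Hl (m + 1) k) (InvX.ofSect v)) :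
    (seq (isInvertible_Hl (m + 1)) (lf_O (m + 1)) v j hker).ShortExact :=
  seq_shortExact (isInvertible_Hl (m + 1)) (lf_O (m + 1)) hv j hker

/-- A form vanishing on a hyperplane is a multiple of its equation. -/
theorem exists_of_pullSec_eq_zero (hv : v ≠ 0) (hker : j.ker = PicF2.zeroScheme (Hl (m + 1) k) (InvX.ofSect v))
    {a : Γ(Hl (m + 1) k, ⊤)} (ha : ProjUP.pullSec j (Hl (m + 1) k) a = 0) :
    ∃ r : k, a = (ProjUP.toGlobal (CohB1.ProjSpace.toSpec (m + 1) k) r • v : Γ(Hl (m + 1) k, ⊤)) := by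
  let P := CohB1.ProjSpace (m + 1) k
  let one' : Γ(Coh.structureModule P, ⊤) := (1 : Γ(P, ⊤))
  let θ := KFlatLib.pullTensorHom j (Coh.structureModule P) (Hl (m + 1) k)
  have h0 : ProjUP.pullSec j (CohB1.tensorMod (Coh.structureModule P) (Hl (m + 1) k)) (InvX.tmul one' a) = 0 := by
    refine (ConcreteCategory.bijective_of_isIso (θ.app ⊤)).1 ?_
    refine (pullTensor_tmul j _ _ one' a).trans ?_
    rw [ha]
    exact (tmul_zero_r _).trans (map_zero (θ.app ⊤).hom).symm
  obtain ⟨r, hr⟩ := exists_section_lift (seqO j hv hker) (u := InvX.tmul one' a) h0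
  obtain ⟨b, rfl⟩ := endo_one r
  refine ⟨b, (tmul_one_bijective (k := k) (m + 1)).1 ?_⟩
  refine hr.symm.trans ?_
  refine ((mul_app_top _ v _).trans (InvX.tmul_smul_left _ _ _)).trans ?_
  exact (InvX.tmul_smul_right _ _ _).symm

/-- Every form on a hyperplane is a restriction. -/
theorem exists_pullSec_eq (hv : v ≠ 0) (hker : j.ker = PicF2.zeroScheme (Hl (m + 1) k) (InvX.ofSect v))
    (w : Γ((Scheme.Modules.pullback j).obj (Hl (m + 1) k), ⊤)) :
    ∃ a : Γ(Hl (m + 1) k, ⊤), ProjUP.pullSec j (Hl (m + 1) k) a = w := by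
  let P := CohB1.ProjSpace (m + 1) k
  have hH1 : Subsingleton (Coh.HH P (Coh.structureModule P) 1) := by
    obtain ⟨e⟩ := nonempty_O_zero (m := m + 1) (k := k)
    exact QCoh.subsingleton_HH_of_iso e 1
      (Groth.Agent.S0844.result k (m + 1) 0 1 (fun h => by omega) (fun h => by omega))
  obtain ⟨e⟩ : Nonempty (CohB1.tensorMod (Coh.structureModule P) (Hl (m + 1) k) ≅ Hl (m + 1) k) :=
    cl_eq_iff.1 ((cl_tensor _ _).trans ((congrArg (· * _) one_def.symm).trans (one_mul _)))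
  obtain ⟨u, hu⟩ := QCoh.app_top_surjective_of_HH_one (seqO j hv hker) hH1
    (((Scheme.Modules.pullback j).map e.inv).app ⊤ w)
  refine ⟨e.hom.app ⊤ u, ?_⟩
  have h1 : ProjUP.pullSec j (Hl (m + 1) k) (e.hom.app ⊤ u) =
      ((Scheme.Modules.pullback j).map e.hom).app ⊤ (ProjUP.pullSec j _ u) :=
    congr(($((Scheme.Modules.pullbackPushforwardAdjunction j).unit.naturality e.hom)).app ⊤ u)
  refine h1.trans ?_
  refine (congrArg (((Scheme.Modules.pullback j).map e.hom).app ⊤) hu).trans ?_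
  show (((Scheme.Modules.pullback j).map e.inv) ≫ ((Scheme.Modules.pullback j).map e.hom)).app ⊤ w = w
  rw [← Functor.map_comp, Iso.inv_hom_id, CategoryTheory.Functor.map_id]
  rfl

omit v in
/-- The forms on a point are proportional. -/
theorem exists_smul_point {a c : Γ(Hl 0 k, ⊤)} (hc : c ≠ 0) :
    ∃ r : k, a = (ProjUP.toGlobal (CohB1.ProjSpace.toSpec 0 k) r • c : Γ(Hl 0 k, ⊤)) := by
  obtain ⟨fa, ha⟩ := HyperplaneLib.exists_sum_coord 0 a
  obtain ⟨fc, hfc⟩ := HyperplaneLib.exists_sum_coord 0 c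
  rw [Fin.sum_univ_one] at ha hfc
  have h0 : fc 0 ≠ 0 := fun h => hc (by rw [hfc, h, map_zero, zero_smul])
  refine ⟨fa 0 / fc 0, ?_⟩
  rw [ha, hfc, smul_smul, ← map_mul, div_mul_cancel₀ _ h0]

omit v in
/-- If `σ a² = σ b c` then `a` vanishes on the zeros of `c`. -/
theorem pullSec_eq_zero_of_square {X Z : Scheme.{u}} [IsIntegral X] [IsLocallyNoetherian X] [IsReduced Z]
    {L : X.Modules} (hL : PicF.IsInvertible L) {A : X.Modules} (hA : FlatMod.IsFinLocFree A)
    {σ : Γ(A, ⊤)} (hσ : σ ≠ 0) (a b c : Γ(L, ⊤))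
    (h : InvX.tmul (InvX.tmul σ a) a = InvX.tmul (InvX.tmul σ b) c)
    (j : Z ⟶ X) [IsClosedImmersion j] (hker : j.ker = PicF2.zeroScheme L (InvX.ofSect c)) :
    ProjUP.pullSec j L a = 0 := by
  refine AModX.eq_of_locally _ _ fun x _ => ?_
  obtain ⟨U₀, hxU₀, e₀, he₀⟩ := InvX.exists_frame hL (j.base x)
  obtain ⟨_, ⟨W, hW, rfl⟩, hxW, hWU⟩ := X.isBasis_affineOpens.exists_subset_of_mem_open hxU₀ U₀.2
  refine ⟨j ⁻¹ᵁ W, le_top, hxW, ?_⟩
  rw [map_zero, ← pb_top]
  have he := he₀.res hWU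
  obtain ⟨fa, hfa⟩ := he.exists_coord le_rfl (res L (le_top : W ≤ ⊤) a)
  obtain ⟨fb, hfb⟩ := he.exists_coord le_rfl (res L (le_top : W ≤ ⊤) b)
  obtain ⟨fc, hfc⟩ := he.exists_coord le_rfl (res L (le_top : W ≤ ⊤) c)
  rw [res_self] at hfa hfb hfc
  have hη : genericPoint X ∈ W := ((genericPoint_spec X).mem_open_set_iff W.2).2 ⟨j.base x, trivial, hxW⟩
  have key : fa * fa = fb * fc := by
    have h1 := congrArg (res (CohB1.tensorMod (CohB1.tensorMod A L) L) (le_top : W ≤ ⊤)) h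
    simp only [InvX.res_tmul, hfa, hfb, hfc, InvX.tmul_smul_left, InvX.tmul_smul_right, smul_smul] at h1
    have heq : (fa * fa - fc * fb) • InvX.tmul (InvX.tmul (res A (le_top : W ≤ ⊤) σ) (res L hWU e₀))
        (res L hWU e₀) = 0 := by rw [sub_smul, h1, sub_self]
    by_contra hne
    rw [← InvX.tmul_smul_left, ← InvX.tmul_smul_left] at heq
    have hd : fa * fa - fc * fb ≠ 0 := fun hd => hne (by rw [sub_eq_zero.1 hd, _root_.mul_comm])
    have hσW : res A (le_top : W ≤ ⊤) σ ≠ 0 := fun h0 => hσ (by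
      refine TorLib.eq_zero_of_germ_genericPoint (QCoh.isQCoh_of_isFinLocFree hA)
        (GenDiff29.isTorsionFree_of_isFinLocFree hA) (U := ⊤) trivial σ ?_
      rw [← TopCat.Presheaf.germ_res_apply A.presheaf (homOfLE (le_top : W ≤ ⊤)) (genericPoint X) hη σ]
      exact (congrArg _ h0).trans (map_zero _))
    have hAL := isFinLocFree_tensor hL hA
    have h2 : InvX.tmul ((fa * fa - fc * fb) • res A (le_top : W ≤ ⊤) σ) (res L hWU e₀) = 0 := by
      refine (Euler.bijective_tmS_frame (QCoh.isQCoh_of_isFinLocFree hAL) (ZeroSchX.isQCoh_inv hL) hW he).1 ?_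
      refine heq.trans ?_
      exact (tmul_zero_l _).symm
    have h3 : (fa * fa - fc * fb) • res A (le_top : W ≤ ⊤) σ = 0 := by
      refine (Euler.bijective_tmS_frame (QCoh.isQCoh_of_isFinLocFree hA) (ZeroSchX.isQCoh_inv hL) hW he).1 ?_
      refine h2.trans ?_
      exact (tmul_zero_l _).symm
    refine hσW (TorLib.eq_zero_of_germ_genericPoint (QCoh.isQCoh_of_isFinLocFree hA)
      (GenDiff29.isTorsionFree_of_isFinLocFree hA) hη _ ?_)
    have h4 := congrArg (A.presheaf.germ W (genericPoint X) hη) h3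
    rw [QCoh.germ_smul', map_zero] at h4
    haveI : Module.IsTorsionFree (X.presheaf.stalk (genericPoint X)) (A.presheaf.stalk (genericPoint X)) :=
      GenDiff29.isTorsionFree_of_isFinLocFree hA (genericPoint X)
    refine (smul_eq_zero.1 h4).resolve_left ?_
    haveI : Nonempty ↥W := ⟨⟨_, hη⟩⟩
    exact fun h5 => hd (germ_injective_of_isIntegral X (genericPoint X) hη (h5.trans (map_zero _).symm))
  have hc0 : j.app W fc = 0 := by
    rw [← RingHom.mem_ker, ← Scheme.Hom.ker_apply j ⟨W, hW⟩, hker, ZeroSchX.ideal_zeroScheme hL,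
      ZeroSchX.zeroIdealOn_eq_span _ he (c := fc) (by
        refine Eq.trans ?_ hfc
        show (InvX.ofSect c).app W (1 : Γ(X, W)) = _
        exact one_smul Γ(X, W) (res L (le_top : W ≤ ⊤) c))]
    exact Ideal.mem_span_singleton_self fc
  have ha0 : j.app W fa = 0 := by
    refine IsReduced.eq_zero _ ⟨2, ?_⟩
    rw [pow_two, ← map_mul, key, map_mul, hc0]; exact MulZeroClass.mul_zero _
  rw [hfa]
  refine (KFlatLib.pb_sm j (M := L) fa (res L hWU e₀)).trans ?_
  rw [show (j.app W) fa = 0 from ha0]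
  exact zero_smul _ _

end Groth.Agent.H28.GM
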