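import Groth.Agent.H28.GM.Socle
import Groth.Agent.H28.GM.Alg
import Groth.Agent.Synt29.ExtPowPull
import Groth.Agent.CurveCohLib.Proper

/-!
# Some hyperplane keeps the vanishing of sections
-/

set_option autoImplicit false
set_option backward.isDefEq.respectTransparency false
set_option backward.isDefEq.respectTransparency.types false
set_option linter.style.haveILetI false
set_option linter.unusedSectionVars false
set_option maxHeartbeats 1000000
set_option synthInstance.maxHeartbeats 400000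

universe u

open CategoryTheory CategoryTheory.Limits AlgebraicGeometry TopologicalSpace Opposite
open scoped Groth.Agent.H23.PicMul

noncomputable section

namespace Groth.Agent.H28.GM

open Groth.Agent Groth.Agent.Synt29 Groth.Agent.H23.PicMul Groth.Agent.AModX

variable {k : Type u} [Field k] [IsAlgClosed k]

local instance over'' : ∀ m : ℕ, (CohB1.ProjSpace m k).Over (Spec (CommRingCat.of k)) := fun m =>
  ⟨CohB1.ProjSpace.toSpec m k⟩

local instance qs'' : ∀ m : ℕ, QuasiSeparated (CohB1.ProjSpace.toSpec m k) := fun m => by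
  haveI := PnCoh.Chow.isProper_toSpec m k
  infer_instance

local instance integral'' : ∀ m : ℕ, IsIntegral (CohB1.ProjSpace m k) := fun m =>
  H23.PnChart.isIntegral_projSpace m k

local instance noeth'' : ∀ m : ℕ, IsLocallyNoetherian (CohB1.ProjSpace m k) := fun m =>
  PnCoh.Finite.isLocallyNoetherian_projSpace m k

local instance proper'' : ∀ m : ℕ, IsProper (CohB1.ProjSpace m k ↘ Spec (CommRingCat.of k)) := fun m =>
  PnCoh.Chow.isProper_toSpec m k

variable {m : ℕ}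

/-- The linear form with given coefficients. -/
def form (ℓ : Fin (m + 1) → k) : Γ(Hl m k, ⊤) :=
  ∑ i, (ProjUP.toGlobal (CohB1.ProjSpace.toSpec m k) (ℓ i) • ProjUP.coord m k i : Γ(Hl m k, ⊤))

theorem form_ne_zero {ℓ : Fin (m + 1) → k} (h : ℓ ≠ 0) : form ℓ ≠ 0 := fun h0 =>
  h (HyperH0.coord_indep m ℓ h0)

theorem form_surjective (v : Γ(Hl m k, ⊤)) : ∃ ℓ : Fin (m + 1) → k, form ℓ = v := by
  obtain ⟨c, hc⟩ := HyperplaneLib.exists_sum_coord m v
  exact ⟨c, hc.symm⟩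

theorem form_smul (r : k) (ℓ : Fin (m + 1) → k) :
    form (r • ℓ) = (ProjUP.toGlobal (CohB1.ProjSpace.toSpec m k) r • form ℓ : Γ(Hl m k, ⊤)) := by
  rw [form, form, Finset.smul_sum]
  exact Finset.sum_congr rfl fun i _ => by rw [smul_smul, ← map_mul]; rfl

theorem form_sub (ℓ ℓ' : Fin (m + 1) → k) : form (ℓ - ℓ') = form ℓ - form ℓ' := by
  rw [form, form, form, ← Finset.sum_sub_distrib]
  exact Finset.sum_congr rfl fun i _ => by rw [Pi.sub_apply, map_sub, sub_smul]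

theorem HHlin_smul {X : Scheme.{u}} [X.Over (Spec (CommRingCat.of k))] {M N : X.Modules} (a : k) (φ : M ⟶ N)
    (q : ℕ) (x : Coh.HH X M q) : Canon.HHlin k (a • φ) q x = a • Canon.HHlin k φ q x := by
  rw [← map_smul, KLin.smul_def, ← PnDual.HHlin_comp]
  rfl

theorem HHlin_mul_form (M : (CohB1.ProjSpace m k).Modules) (ℓ : Fin (m + 1) → k) :
    Canon.HHlin k (mul M (form ℓ)) 1 = ∑ i, ℓ i • Canon.HHlin k (mul M (ProjUP.coord m k i : Γ(Hl m k, ⊤))) 1 := by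
  refine LinearMap.ext fun x => ?_
  rw [LinearMap.sum_apply, form, mul_sum, PnDual.HHlin_sum]
  refine Finset.sum_congr rfl fun i _ => ?_
  rw [LinearMap.smul_apply, show mul M (ProjUP.toGlobal (CohB1.ProjSpace.toSpec m k) (ℓ i) •
    ProjUP.coord m k i : Γ(Hl m k, ⊤)) = ℓ i • mul M (ProjUP.coord m k i : Γ(Hl m k, ⊤)) from mul_smul M (ℓ i) _,
    HHlin_smul]

theorem subsingleton_untwist {M : (CohB1.ProjSpace m k).Modules} (hM : FlatMod.IsFinLocFree M)
    (h : Subsingleton Γ(CohB1.tensorMod M (Hl m k), ⊤)) : Subsingleton Γ(M, ⊤) := by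
  obtain ⟨z, hz⟩ : ∃ z : Γ(Hl m k, ⊤), z ≠ 0 := ⟨form (Pi.single 0 1), form_ne_zero (by
    intro h0
    simpa using congrFun h0 0)⟩
  exact (mul_injective (isInvertible_Hl m) hM hz ⊤).subsingleton

theorem toGlobal_push {X Y : Scheme.{u}} (j : X ⟶ Y) (M : X.Modules) (qY : Y ⟶ Spec (CommRingCat.of k))
    (qX : X ⟶ Spec (CommRingCat.of k)) (hq : j ≫ qY = qX) (a : k)
    (r : Γ((Scheme.Modules.pushforward j).obj M, ⊤)) :
    (ProjUP.toGlobal qY a • r : Γ((Scheme.Modules.pushforward j).obj M, ⊤)) =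
      (ProjUP.toGlobal qX a • (show Γ(M, ⊤) from r) : Γ(M, ⊤)) := by
  subst hq
  rfl

theorem qcoh_pullback {X Y : Scheme.{u}} (j : X ⟶ Y) {M : Y.Modules} (hM : FlatMod.IsFinLocFree M) :
    Coh.IsQCoh ((Scheme.Modules.pullback j).obj M) :=
  QCoh.isQCoh_of_isFinLocFree (CanonEval.isFinLocFree_pullback j hM)

/-- Pull back of a twist. -/
def pullTwistIso {X Y : Scheme.{u}} (j : X ⟶ Y) (M : Y.Modules) {L : Y.Modules} {L' : X.Modules}
    (τ : (Scheme.Modules.pullback j).obj L ≅ L') :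
    (Scheme.Modules.pullback j).obj (CohB1.tensorMod M L) ≅
      CohB1.tensorMod ((Scheme.Modules.pullback j).obj M) L' :=
  asIso (KFlatLib.pullTensorHom j M L) ≪≫ (DCoh.tensorBi.obj ((Scheme.Modules.pullback j).obj M)).mapIso τ

theorem pullTwistIso_mul {X Y : Scheme.{u}} (j : X ⟶ Y) (M : Y.Modules) {L : Y.Modules} {L' : X.Modules}
    (τ : (Scheme.Modules.pullback j).obj L ≅ L') (v : Γ(L, ⊤)) :
    (Scheme.Modules.pullback j).map (mul M v) ≫ (pullTwistIso j M τ).hom =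
      mul ((Scheme.Modules.pullback j).obj M) (τ.hom.app ⊤ (ProjUP.pullSec j L v)) := by
  show (Scheme.Modules.pullback j).map (mul M v) ≫ KFlatLib.pullTensorHom j M L ≫
    (DCoh.tensorBi.obj _).map τ.hom = _
  rw [← Category.assoc, pull_mul, mul_change]

section Generic

variable {X Z : Scheme.{u}} [IsIntegral X] [IsLocallyNoetherian X] [X.Over (Spec (CommRingCat.of k))]
  {L : X.Modules} (hL : PicF.IsInvertible L) {M : X.Modules} (hM : FlatMod.IsFinLocFree M)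
  {v : Γ(L, ⊤)} (hv : v ≠ 0) (j : Z ⟶ X) [IsClosedImmersion j]
  (hker : j.ker = PicF2.zeroScheme L (InvX.ofSect v))
include hL hM hv hker

theorem restr_injective (h1 : Subsingleton Γ(CohB1.tensorMod M L, ⊤))
    (hinj : Function.Injective (Canon.HHlin k (mul M v) 1)) :
    Subsingleton Γ((Scheme.Modules.pullback j).obj (CohB1.tensorMod M L), ⊤) := by
  have hS := seq_shortExact hL hM hv j hker
  suffices ∀ r : Γ(restr j (CohB1.tensorMod M L), ⊤), r = 0 from ⟨fun a b => (this a).trans (this b).symm⟩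
  intro r
  obtain ⟨u, rfl⟩ := (dl_eq_zero_iff hS r).1 (hinj ((f_dl (k := k) hS r).trans (map_zero _).symm))
  rw [h1.elim u 0, map_zero]

theorem injective_of_restr (h : Subsingleton Γ((Scheme.Modules.pullback j).obj (CohB1.tensorMod M L), ⊤)) :
    Function.Injective (Canon.HHlin k (mul M v) 1) := by
  have hS := seq_shortExact hL hM hv j hker
  refine (injective_iff_map_eq_zero _).2 fun x hx => ?_
  obtain ⟨r, rfl⟩ := exists_dl hS hx
  refine (dl_eq_zero_iff hS r).2 ⟨0, (map_zero _).trans ?_⟩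
  exact (h.elim _ _ : (0 : Γ((Scheme.Modules.pullback j).obj (CohB1.tensorMod M L), ⊤)) = r)

theorem exists_kernel (h2 : Subsingleton Γ(CohB1.tensorMod M L, ⊤))
    (h : ¬ Subsingleton Γ((Scheme.Modules.pullback j).obj (CohB1.tensorMod M L), ⊤)) :
    ∃ s, s ≠ 0 ∧ Canon.HHlin k (mul M v) 1 s = 0 := by
  have hS := seq_shortExact hL hM hv j hker
  obtain ⟨r, hr⟩ : ∃ r : Γ(restr j (CohB1.tensorMod M L), ⊤), r ≠ 0 := by
    by_contra! hall
    exact h ⟨fun a b => (hall a).trans (hall b).symm⟩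
  refine ⟨dl k hS r, fun h => ?_, f_dl hS r⟩
  obtain ⟨u, rfl⟩ := (dl_eq_zero_iff hS r).1 h
  exact hr (by rw [h2.elim u 0, map_zero])

theorem exists_restr {s : Coh.HH X M 1} (hs : Canon.HHlin k (mul M v) 1 s = 0) (hne : s ≠ 0) :
    ∃ r : Γ((Scheme.Modules.pullback j).obj (CohB1.tensorMod M L), ⊤), r ≠ 0 := by
  have hS := seq_shortExact hL hM hv j hker
  obtain ⟨r, rfl⟩ := exists_dl hS hs
  exact ⟨r, fun h => hne ((dl_eq_zero_iff hS r).2 ⟨0, (map_zero _).trans h.symm⟩)⟩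

theorem kernel_line (qZ : Z ⟶ Spec (CommRingCat.of k)) (hjq : j ≫ (X ↘ Spec (CommRingCat.of k)) = qZ)
    (hprop : ∀ r r' : Γ((Scheme.Modules.pullback j).obj (CohB1.tensorMod M L), ⊤), r ≠ 0 → ∃ a : k,
      r' = (ProjUP.toGlobal qZ a • r : Γ((Scheme.Modules.pullback j).obj (CohB1.tensorMod M L), ⊤)))
    {s s' : Coh.HH X M 1} (hs : Canon.HHlin k (mul M v) 1 s = 0) (hs' : Canon.HHlin k (mul M v) 1 s' = 0)
    (hne : s ≠ 0) : ∃ a : k, s' = a • s := by
  have hS := seq_shortExact hL hM hv j hker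
  obtain ⟨r, rfl⟩ := exists_dl hS hs
  obtain ⟨r', rfl⟩ := exists_dl hS hs'
  obtain ⟨a, ha⟩ := hprop r r' fun h => hne ((dl_eq_zero_iff hS r).2 ⟨0, (map_zero _).trans h.symm⟩)
  refine ⟨a, ?_⟩
  rw [← dl_smul]
  exact congrArg (dl k hS) (ha.trans (toGlobal_push j _ _ _ hjq a r).symm)

end Generic

section Step

variable (M₀ : (CohB1.ProjSpace (m + 2) k).Modules)

local notation "M₁" => CohB1.tensorMod M₀ (Hl (m + 2) k)
local notation "M₂" => CohB1.tensorMod (CohB1.tensorMod M₀ (Hl (m + 2) k)) (Hl (m + 2) k)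

variable (hM₀ : FlatMod.IsFinLocFree M₀)
include hM₀

theorem lf₁ : FlatMod.IsFinLocFree M₁ := isFinLocFree_tensor (isInvertible_Hl _) hM₀

theorem lf₂ : FlatMod.IsFinLocFree M₂ := isFinLocFree_tensor (isInvertible_Hl _) (lf₁ M₀ hM₀)

/-- Independent forms have no common kernel. -/
theorem no_common_kernel (h2 : Subsingleton Γ(M₂, ⊤)) {y y' : Fin (m + 2 + 1) → k}
    (hy : LinearIndependent k ![y, y']) (x : Coh.HH (CohB1.ProjSpace (m + 2) k) M₀ 1)
    (hx : Canon.HHlin k (mul M₀ (form y)) 1 x = 0) (hx' : Canon.HHlin k (mul M₀ (form y')) 1 x = 0) : x = 0 := by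
  have hy0 : y ≠ 0 := hy.ne_zero 0
  obtain ⟨j, hj, hjq, ⟨τ⟩, hker⟩ := exists_hyp k (m + 1) (form_ne_zero hy0)
  haveI := hj
  have hL := isInvertible_Hl (k := k) (m + 2)
  have hS := seq_shortExact hL hM₀ (form_ne_zero hy0) j hker
  have hS' := seq_shortExact hL (lf₁ M₀ hM₀) (form_ne_zero hy0) j hker
  obtain ⟨r, rfl⟩ := exists_dl hS hx
  let φ : seq hL hM₀ (form y) j hker ⟶ seq hL (lf₁ M₀ hM₀) (form y) j hker :=
    { τ₁ := mul M₀ (form y')
      τ₂ := mul M₁ (form y')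
      τ₃ := (Scheme.Modules.pushforward j).map ((Scheme.Modules.pullback j).map (mul M₁ (form y')))
      comm₁₂ := mul_comm hL M₀ (form y') (form y)
      comm₂₃ := (Scheme.Modules.pullbackPushforwardAdjunction j).unit.naturality (mul M₁ (form y')) }
  obtain ⟨u, hu⟩ := (dl_eq_zero_iff hS' _).1 ((dl_natural hS hS' φ r).symm.trans hx')
  rw [h2.elim u 0, map_zero] at hu
  have hne : τ.hom.app ⊤ (ProjUP.pullSec j (Hl (m + 2) k) (form y')) ≠ 0 := fun h0 => by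
    have h1 := (ConcreteCategory.bijective_of_isIso (τ.hom.app ⊤)).1 (h0.trans (map_zero (τ.hom.app ⊤).hom).symm)
    obtain ⟨t, ht⟩ := exists_of_pullSec_eq_zero j (form_ne_zero hy0) hker h1
    rw [← form_smul, ← sub_eq_zero, ← form_sub] at ht
    have ht' : y' = t • y := by
      by_contra hne
      exact form_ne_zero (sub_ne_zero.2 hne) ht
    have h01 := (LinearIndependent.pair_iff.1 hy) (-t) 1 (by rw [ht']; simp)
    exact one_ne_zero h01.2
  have hr : (show Γ((Scheme.Modules.pullback j).obj M₁, ⊤) from r) = 0 := by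
    refine mul_injective (isInvertible_Hl (m + 1)) (CanonEval.isFinLocFree_pullback j (lf₁ M₀ hM₀)) hne ⊤ ?_
    rw [map_zero, ← pullTwistIso_mul j M₁ τ (form y')]
    show (pullTwistIso j M₁ τ).hom.app ⊤ (φ.τ₃.app ⊤ r) = 0
    rw [← hu]
    exact map_zero _
  exact (dl_eq_zero_iff hS r).2 ⟨0, (map_zero _).trans hr.symm⟩

/-- An element of `H¹` killed by the equation of a good hyperplane and all of whose multiples are multiples of that
equation is itself such a multiple. -/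
theorem exists_preimage {v : Γ(Hl (m + 2) k, ⊤)} (hv : v ≠ 0)
    (j : CohB1.ProjSpace (m + 1) k ⟶ CohB1.ProjSpace (m + 2) k) [IsClosedImmersion j]
    (hker : j.ker = PicF2.zeroScheme (Hl (m + 2) k) (InvX.ofSect v))
    (τ : (Scheme.Modules.pullback j).obj (Hl (m + 2) k) ≅ Hl (m + 1) k)
    (hcase : Subsingleton (Coh.HH (CohB1.ProjSpace (m + 1) k) ((Scheme.Modules.pullback j).obj M₁) 1) ∨
      ∀ ξ : Coh.HH (CohB1.ProjSpace (m + 1) k) ((Scheme.Modules.pullback j).obj M₁) 1,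
        (∀ w : Γ(Hl (m + 1) k, ⊤),
          Canon.HHlin k (mul ((Scheme.Modules.pullback j).obj M₁) w) 1 ξ = 0) → ξ = 0)
    (s : Coh.HH (CohB1.ProjSpace (m + 2) k) M₁ 1)
    (hs : ∀ w : Γ(Hl (m + 2) k, ⊤), ∃ u, Canon.HHlin k (mul M₁ w) 1 s = Canon.HHlin k (mul M₁ v) 1 u) :
    ∃ x, Canon.HHlin k (mul M₀ v) 1 x = s := by
  have hL := isInvertible_Hl (k := k) (m + 2)
  have hS := seq_shortExact hL hM₀ hv j hker
  have hS' := seq_shortExact hL (lf₁ M₀ hM₀) hv j hker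
  refine exists_of_g hS ?_
  obtain ⟨e, he⟩ := exists_push_natural j
  have hq1 := qcoh_pullback j (lf₁ M₀ hM₀)
  have hq2 := qcoh_pullback j (lf₂ M₀ hM₀)
  obtain ⟨ξ, hξ⟩ := (e _ hq1).surjective (Canon.HHlin k (toRestr j M₁) 1 s)
  suffices hz : ξ = 0 by
    show Canon.HHlin k (toRestr j M₁) 1 s = 0
    rw [← hξ, hz, map_zero]
  rcases hcase with h | h
  · exact h.elim _ _
  refine h ξ fun w' => ?_
  obtain ⟨w, hw⟩ := exists_pullSec_eq j hv hker (τ.inv.app ⊤ w')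
  obtain ⟨u, hu⟩ := hs w
  have h1 : Canon.HHlin k ((Scheme.Modules.pullback j).map (mul M₁ w)) 1 ξ = 0 := by
    refine (e _ hq2).injective ((he _ _ hq1 hq2 ((Scheme.Modules.pullback j).map (mul M₁ w)) ξ).trans ?_)
    rw [hξ, map_zero]
    refine (PnDual.HHlin_comp (R := k) (toRestr j M₁)
      ((Scheme.Modules.pushforward j).map ((Scheme.Modules.pullback j).map (mul M₁ w))) 1 s).trans ?_
    refine (congrArg (fun φ => Canon.HHlin k φ 1 s)
      ((Scheme.Modules.pullbackPushforwardAdjunction j).unit.naturality (mul M₁ w)).symm).trans ?_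
    refine (PnDual.HHlin_comp (R := k) (mul M₁ w) (toRestr j M₂) 1 s).symm.trans ?_
    rw [hu]
    exact g_f hS' u
  have hw' : τ.hom.app ⊤ (ProjUP.pullSec j (Hl (m + 2) k) w) = w' := by
    rw [hw]
    show (τ.inv ≫ τ.hom).app ⊤ w' = w'
    rw [τ.inv_hom_id]
    rfl
  rw [← hw', ← pullTwistIso_mul j M₁ τ w, ← PnDual.HHlin_comp, h1, map_zero]

/-- The bundle on a good hyperplane. -/
theorem restr_structure
    (hM : FlatMod.IsFinLocFreeOfRank 2 M₂) {d : ℤ} (hd : d ≤ -1) (hd' : d ≤ -2 ∨ 1 ≤ m)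
    (hdet : ∃ L : (CohB1.ProjSpace (m + 2) k).Modules, ExtPow.IsExtPow 2 M₂ L ∧ Nonempty (L ≅ Rank2Pn.O d))
    (j : CohB1.ProjSpace (m + 1) k ⟶ CohB1.ProjSpace (m + 2) k) [IsClosedImmersion j]
    (τ : (Scheme.Modules.pullback j).obj (Hl (m + 2) k) ≅ Hl (m + 1) k)
    (h0 : Subsingleton Γ((Scheme.Modules.pullback j).obj M₁, ⊤))
    {r : Γ((Scheme.Modules.pullback j).obj M₂, ⊤)} (hr : r ≠ 0) :
    (∀ r' : Γ((Scheme.Modules.pullback j).obj M₂, ⊤), ∃ a : k,
      r' = (ProjUP.toGlobal (CohB1.ProjSpace.toSpec (m + 1) k) a • r :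
        Γ((Scheme.Modules.pullback j).obj M₂, ⊤))) ∧
    (Subsingleton (Coh.HH (CohB1.ProjSpace (m + 1) k) ((Scheme.Modules.pullback j).obj M₁) 1) ∨
      ∀ ξ : Coh.HH (CohB1.ProjSpace (m + 1) k) ((Scheme.Modules.pullback j).obj M₁) 1,
        (∀ w : Γ(Hl (m + 1) k, ⊤),
          Canon.HHlin k (mul ((Scheme.Modules.pullback j).obj M₁) w) 1 ξ = 0) → ξ = 0) := by
  let θ := pullTwistIso j M₁ τ
  have hF := SubLine.rank_of_cl (n := m + 1) (k := k) (cl_eq_iff.2 ⟨θ.symm⟩)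
    (TFOneX.isFinLocFreeOfRank_pullback j hM)
  obtain ⟨L', hL', ⟨e'⟩⟩ := hdet
  obtain ⟨e''⟩ := cl_eq_iff.1 (show PicF.cl ((Scheme.Modules.pullback j).obj (Twist.twistProjSpace (m + 2) k d)) =
    PnEuler.tw (m + 1) k d from HyperH0.pullCl_O j ⟨τ⟩ d)
  have hdetF := ExtPowPull.isExtPow_of_iso θ
    (ExtPowPull.isExtPow_pullback j (QCoh.isQCoh_of_isFinLocFree (lf₂ M₀ hM₀)) hL')
  have hinj := (ConcreteCategory.bijective_of_isIso (θ.hom.app ⊤)).1
  have hr' : θ.hom.app ⊤ r ≠ 0 := fun h => hr (hinj (h.trans (map_zero _).symm))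
  obtain ⟨h1, h2⟩ := structure_of_section (m := m + 1) (by omega) hF
    ⟨_, hdetF, ⟨(Scheme.Modules.pullback j).mapIso e' ≪≫ e''⟩⟩ hd (by omega) h0 hr'
  refine ⟨fun r' => ?_, h2.imp_right fun hsec =>
    socle_vanish (CanonEval.isFinLocFree_pullback j (lf₁ M₀ hM₀)) h0 hr' hsec⟩
  obtain ⟨a, ha⟩ := h1 (θ.hom.app ⊤ r')
  exact ⟨a, hinj (ha.trans (Scheme.Modules.Hom.app_smul θ.hom _ _).symm)⟩

end Step

variable [CharZero k]

/-- The inductive step: some hyperplane has no sections in the next degree. -/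
theorem exists_hyp_vanish {M₀ : (CohB1.ProjSpace (m + 2) k).Modules} (hM₀ : FlatMod.IsFinLocFree M₀)
    (hM : FlatMod.IsFinLocFreeOfRank 2 (CohB1.tensorMod (CohB1.tensorMod M₀ (Hl (m + 2) k)) (Hl (m + 2) k)))
    {d : ℤ} (hd : d ≤ -1) (hd' : d ≤ -2 ∨ 1 ≤ m)
    (hdet : ∃ L : (CohB1.ProjSpace (m + 2) k).Modules,
      ExtPow.IsExtPow 2 (CohB1.tensorMod (CohB1.tensorMod M₀ (Hl (m + 2) k)) (Hl (m + 2) k)) L ∧
      Nonempty (L ≅ Rank2Pn.O d))
    (h2 : Subsingleton Γ(CohB1.tensorMod (CohB1.tensorMod M₀ (Hl (m + 2) k)) (Hl (m + 2) k), ⊤))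
    (hprev : ∃ (v : Γ(Hl (m + 2) k, ⊤)) (j : CohB1.ProjSpace (m + 1) k ⟶ CohB1.ProjSpace (m + 2) k),
      v ≠ 0 ∧ IsClosedImmersion j ∧ j.ker = PicF2.zeroScheme (Hl (m + 2) k) (InvX.ofSect v) ∧
      Subsingleton Γ((Scheme.Modules.pullback j).obj (CohB1.tensorMod M₀ (Hl (m + 2) k)), ⊤)) :
    ∃ (v : Γ(Hl (m + 2) k, ⊤)) (j : CohB1.ProjSpace (m + 1) k ⟶ CohB1.ProjSpace (m + 2) k),
      v ≠ 0 ∧ IsClosedImmersion j ∧ j ≫ CohB1.ProjSpace.toSpec (m + 2) k = CohB1.ProjSpace.toSpec (m + 1) k ∧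
      Nonempty ((Scheme.Modules.pullback j).obj (Hl (m + 2) k) ≅ Hl (m + 1) k) ∧
      j.ker = PicF2.zeroScheme (Hl (m + 2) k) (InvX.ofSect v) ∧
      Subsingleton Γ((Scheme.Modules.pullback j).obj
        (CohB1.tensorMod (CohB1.tensorMod M₀ (Hl (m + 2) k)) (Hl (m + 2) k)), ⊤) := by
  by_contra hcon
  let P := CohB1.ProjSpace (m + 2) k
  let L := Hl (m + 2) k
  let M₁ := CohB1.tensorMod M₀ L
  let M₂ := CohB1.tensorMod M₁ L
  have hL := isInvertible_Hl (k := k) (m + 2)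
  have hM₁ := lf₁ M₀ hM₀
  have hM₂ := lf₂ M₀ hM₀
  have h1 : Subsingleton Γ(M₁, ⊤) := subsingleton_untwist hM₁ h2
  have hfin : ∀ M : P.Modules, FlatMod.IsFinLocFree M → Module.Finite k (Coh.HH P M 1) := fun M hMl =>
    CurveCohLib.finite_HH (QCoh.isCoh_iff_isFP.2 (QCoh.isFP_of_isFinLocFree hMl)) 1
  haveI : Module.Finite k (Coh.HH P M₀ 1) := hfin M₀ hM₀
  haveI : Module.Finite k (Coh.HH P M₁ 1) := hfin M₁ hM₁
  haveI : Module.Finite k (Coh.HH P M₂ 1) := hfin M₂ hM₂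
  let A : Fin (m + 2 + 1) → Coh.HH P M₀ 1 →ₗ[k] Coh.HH P M₁ 1 := fun i =>
    Canon.HHlin k (mul M₀ (ProjUP.coord (m + 2) k i : Γ(L, ⊤))) 1
  let B : Fin (m + 2 + 1) → Coh.HH P M₁ 1 →ₗ[k] Coh.HH P M₂ 1 := fun i =>
    Canon.HHlin k (mul M₁ (ProjUP.coord (m + 2) k i : Γ(L, ⊤))) 1
  have hA : ∀ ℓ, (∑ i, ℓ i • A i) = Canon.HHlin k (mul M₀ (form ℓ)) 1 := fun ℓ => (HHlin_mul_form M₀ ℓ).symm
  have hB : ∀ ℓ, (∑ i, ℓ i • B i) = Canon.HHlin k (mul M₁ (form ℓ)) 1 := fun ℓ => (HHlin_mul_form M₁ ℓ).symm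
  refine no_kernel_everywhere' (by omega : 2 ≤ m + 2) A B (fun i i' => ?_) (fun ℓ hℓ => ?_) ?_
    (fun y y' hy x hx hx' => ?_) (fun ℓ hℓ hinj s s' hs hs' hne => ?_) (fun ℓ hℓ hinj s hs hall => ?_)
  · refine LinearMap.ext fun x => ?_
    show Canon.HHlin k _ 1 (Canon.HHlin k _ 1 x) = Canon.HHlin k _ 1 (Canon.HHlin k _ 1 x)
    rw [PnDual.HHlin_comp, PnDual.HHlin_comp, mul_comm hL]
  · obtain ⟨j, hj, hjq, hτ, hker⟩ := exists_hyp k (m + 1) (form_ne_zero hℓ)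
    haveI := hj
    rw [hB]
    exact exists_kernel (k := k) hL hM₁ (form_ne_zero hℓ) j hker h2
      fun h => hcon ⟨_, j, form_ne_zero hℓ, hj, hjq, hτ, hker, h⟩
  · obtain ⟨v, j, hv, hj, hker, h⟩ := hprev
    haveI := hj
    obtain ⟨ℓ, rfl⟩ := form_surjective v
    exact ⟨ℓ, by rw [hA]; exact injective_of_restr hL hM₀ hv j hker h⟩
  · rw [hA] at hx hx'
    exact no_common_kernel M₀ hM₀ h2 hy x hx hx'
  · rw [hA] at hinj
    rw [hB] at hs hs'
    obtain ⟨j, hj, hjq, ⟨τ⟩, hker⟩ := exists_hyp k (m + 1) (form_ne_zero hℓ)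
    haveI := hj
    have h0 := restr_injective hL hM₀ (form_ne_zero hℓ) j hker h1 hinj
    exact kernel_line hL hM₁ (form_ne_zero hℓ) j hker _ hjq
      (fun r r' hr => (restr_structure M₀ hM₀ hM hd hd' hdet j τ h0 hr).1 r') hs hs' hne
  · rw [hA] at hinj
    rw [hB] at hs
    obtain ⟨j, hj, hjq, ⟨τ⟩, hker⟩ := exists_hyp k (m + 1) (form_ne_zero hℓ)
    haveI := hj
    have h0 := restr_injective hL hM₀ (form_ne_zero hℓ) j hker h1 hinj
    rw [hA]
    by_cases hs0 : s = 0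
    · exact ⟨0, (map_zero _).trans hs0.symm⟩
    obtain ⟨r, hr0⟩ := exists_restr hL hM₁ (form_ne_zero hℓ) j hker hs hs0
    refine exists_preimage M₀ hM₀ (form_ne_zero hℓ) j hker τ
      (restr_structure M₀ hM₀ hM hd hd' hdet j τ h0 hr0).2 s fun w => ?_
    obtain ⟨c, rfl⟩ := form_surjective w
    choose u hu using hall
    refine ⟨∑ i, c i • u i, ?_⟩
    rw [← hB, ← hB, LinearMap.sum_apply, map_sum]
    refine Finset.sum_congr rfl fun i _ => ?_
    rw [LinearMap.smul_apply, map_smul, hu i]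

end Groth.Agent.H28.GM
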