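import Groth.Agent.Synt29.PlaneSplit
import Groth.Agent.KFlatLib.Scheme.PullTensorCx

/-!
# Multiplication of a bundle by a section of a line bundle
-/

set_option autoImplicit false
set_option backward.isDefEq.respectTransparency false
set_option backward.isDefEq.respectTransparency.types false
set_option linter.style.haveILetI false
set_option linter.unusedSectionVars false
set_option maxHeartbeats 1000000
set_option synthInstance.maxHeartbeats 400000

universe u

open CategoryTheory CategoryTheory.Limits AlgebraicGeometry TopologicalSpace Opposite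
open scoped Groth.Agent.H23.PicMul

noncomputable section

namespace Groth.Agent.H28.GM

open Groth.Agent Groth.Agent.H23.PicMul Groth.Agent.AModX

variable {X : Scheme.{u}} {L L' : X.Modules}

/-- Multiplication by a section. -/
def mul (M : X.Modules) (v : Γ(L, ⊤)) : M ⟶ CohB1.tensorMod M L :=
  ⟨PresheafOfModules.homMk
    { app := fun V => AddCommGrpCat.ofHom
        (AddMonoidHom.mk' (fun m => InvX.tmul (M := M) m (res L (le_top : V.unop ≤ ⊤) v))
          fun a b => H28.Box.tmul_add_l a b _)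
      naturality := fun V V' i => by
        ext a
        show InvX.tmul (res M i.unop.le a) (res L (le_top : V'.unop ≤ ⊤) v) =
          res (CohB1.tensorMod M L) i.unop.le (InvX.tmul a (res L (le_top : V.unop ≤ ⊤) v))
        rw [InvX.res_tmul, res_res] }
    fun V r a => InvX.tmul_smul_left r a _⟩

theorem mul_app (M : X.Modules) (v : Γ(L, ⊤)) (U : X.Opens) (m : Γ(M, U)) :
    (mul M v).app U m = InvX.tmul m (res L (le_top : U ≤ ⊤) v) := rfl

theorem mul_app_top (M : X.Modules) (v : Γ(L, ⊤)) (m : Γ(M, ⊤)) :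
    (mul M v).app ⊤ m = InvX.tmul m v := by
  rw [mul_app, res_self]

theorem mul_add (M : X.Modules) (v w : Γ(L, ⊤)) : mul M (v + w) = mul M v + mul M w := by
  refine Scheme.Modules.hom_ext _ _ fun U => AddCommGrpCat.hom_ext (AddMonoidHom.ext fun m => ?_)
  show InvX.tmul m (res L le_top (v + w)) = InvX.tmul m (res L le_top v) + InvX.tmul m (res L le_top w)
  rw [map_add, H28.Box.tmul_add_r]

theorem mul_zero (M : X.Modules) : mul M (0 : Γ(L, ⊤)) = 0 := by
  have h := mul_add M (0 : Γ(L, ⊤)) 0
  rw [add_zero] at h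
  exact left_eq_add.1 h

theorem mul_sum (M : X.Modules) {ι : Type*} (s : Finset ι) (v : ι → Γ(L, ⊤)) :
    mul M (∑ i ∈ s, v i) = ∑ i ∈ s, mul M (v i) := by
  classical
  induction s using Finset.induction with
  | empty => rw [Finset.sum_empty, Finset.sum_empty, mul_zero]
  | insert a s ha ih => rw [Finset.sum_insert ha, Finset.sum_insert ha, mul_add, ih]

/-- Linearity over the base. -/
theorem mul_smul {k : Type u} [CommRing k] [X.Over (Spec (CommRingCat.of k))] (M : X.Modules) (a : k)
    (v : Γ(L, ⊤)) :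
    mul M (ProjUP.toGlobal (X ↘ Spec (CommRingCat.of k)) a • v : Γ(L, ⊤)) = a • mul M v := by
  refine Scheme.Modules.hom_ext _ _ fun U => AddCommGrpCat.hom_ext (AddMonoidHom.ext fun m => ?_)
  refine Eq.trans ?_ (KLin.smul_app_apply a (mul M v) U m).symm
  show InvX.tmul m (res L (le_top : U ≤ ⊤) (_ • v)) = _
  rw [res_smul, InvX.tmul_smul_right]
  rfl

/-- Naturality in the module. -/
theorem mul_natural {M M' : X.Modules} (f : M ⟶ M') (v : Γ(L, ⊤)) :
    f ≫ mul M' v = mul M v ≫ (DCoh.tensorBi.map f).app L := by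
  refine Scheme.Modules.hom_ext _ _ fun U => AddCommGrpCat.hom_ext (AddMonoidHom.ext fun m => ?_)
  exact (KFlatLib.tmSh_naturality_left f L (U := U) m (res L (le_top : U ≤ ⊤) v)).symm

/-- Naturality in the line bundle. -/
theorem mul_change (M : X.Modules) (τ : L ⟶ L') (v : Γ(L, ⊤)) :
    mul M v ≫ (DCoh.tensorBi.obj M).map τ = mul M (τ.app ⊤ v) := by
  refine Scheme.Modules.hom_ext _ _ fun U => AddCommGrpCat.hom_ext (AddMonoidHom.ext fun m => ?_)
  refine (KFlatLib.tmSh_naturality_right M τ (U := U) m (res L (le_top : U ≤ ⊤) v)).trans ?_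
  exact congrArg (InvX.tmul m) (app_res τ le_top v)

/-- Multiplications commute. -/
theorem mul_comm (hL : PicF.IsInvertible L) (M : X.Modules) (v w : Γ(L, ⊤)) :
    mul M v ≫ mul (CohB1.tensorMod M L) w = mul M w ≫ mul (CohB1.tensorMod M L) v := by
  refine Scheme.Modules.hom_ext _ _ fun U => AddCommGrpCat.hom_ext (AddMonoidHom.ext fun m => ?_)
  show InvX.tmul (InvX.tmul m (res L le_top v)) (res L le_top w) =
    InvX.tmul (InvX.tmul m (res L le_top w)) (res L le_top v)
  refine AModX.eq_of_locally _ _ fun p hp => ?_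
  obtain ⟨V₀, hpV, e₀, he₀⟩ := InvX.exists_frame hL p
  let V := V₀ ⊓ U
  have he := he₀.res (inf_le_left : V ≤ V₀)
  obtain ⟨f, hf⟩ := he.exists_coord le_rfl (res L (le_top : V ≤ ⊤) v)
  obtain ⟨g, hg⟩ := he.exists_coord le_rfl (res L (le_top : V ≤ ⊤) w)
  rw [res_self] at hf hg
  refine ⟨V, inf_le_right, ⟨hpV, hp⟩, ?_⟩
  simp only [InvX.res_tmul, res_res]
  rw [hf, hg]
  simp only [InvX.tmul_smul_left, InvX.tmul_smul_right, smul_smul, _root_.mul_comm]

variable {Z : Scheme.{u}} (j : Z ⟶ X)

theorem pb_top (v : Γ(L, ⊤)) (U : X.Opens) :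
    KFlatLib.pb j (M := L) (U := U) (res L (le_top : U ≤ ⊤) v) =
      res ((Scheme.Modules.pullback j).obj L) (le_top : j ⁻¹ᵁ U ≤ ⊤) (ProjUP.pullSec j L v) :=
  app_res ((Scheme.Modules.pullbackPushforwardAdjunction j).unit.app L) le_top v

/-- Pull back of a multiplication. -/
theorem pull_mul (M : X.Modules) (v : Γ(L, ⊤)) :
    (Scheme.Modules.pullback j).map (mul M v) ≫ KFlatLib.pullTensorHom j M L =
      mul ((Scheme.Modules.pullback j).obj M) (ProjUP.pullSec j L v) := by
  apply ((Scheme.Modules.pullbackPushforwardAdjunction j).homEquiv _ _).injective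
  refine Scheme.Modules.hom_ext _ _ fun U => AddCommGrpCat.hom_ext (AddMonoidHom.ext fun m => ?_)
  rw [Adjunction.homEquiv_unit, Adjunction.homEquiv_unit]
  show (KFlatLib.pullTensorHom j M L).app (j ⁻¹ᵁ U)
      (((Scheme.Modules.pullback j).map (mul M v)).app (j ⁻¹ᵁ U) (KFlatLib.pb j m)) =
    InvX.tmul (KFlatLib.pb j m) (res _ le_top (ProjUP.pullSec j L v))
  rw [← pb_top]
  refine (congrArg ((KFlatLib.pullTensorHom j M L).app (j ⁻¹ᵁ U)) (KFlatLib.pb_naturality j (mul M v) m).symm).trans ?_
  exact KFlatLib.pullTensorHom_pb j M L m (res L le_top v)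

/-- The section of a line bundle as a homomorphism, on a tensor. -/
theorem tensor_ofSect (M : X.Modules) (v : Γ(L, ⊤)) (U : X.Opens) (m : Γ(M, U)) :
    ((DCoh.tensorBi.obj M).map (InvX.ofSect v)).app U
        (QCoh.tmS M (Coh.structureModule X) m (show Γ(X, U) from 1)) = (mul M v).app U m := by
  refine (KFlatLib.tmSh_naturality_right M (InvX.ofSect v) (U := U) m _).trans ?_
  refine congrArg (InvX.tmul m) ?_
  exact one_smul Γ(X, U) (res L (le_top : U ≤ ⊤) v)

theorem ofSect_ne_zero {v : Γ(L, ⊤)} (hv : v ≠ 0) : InvX.ofSect v ≠ 0 := fun h => hv (by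
  rw [← InvX.one_ofSect v, h]; rfl)

variable [IsIntegral X] [IsLocallyNoetherian X]

/-- Multiplication by a nonzero section is injective. -/
theorem mul_injective (hL : PicF.IsInvertible L) {M : X.Modules} (hM : FlatMod.IsFinLocFree M) {v : Γ(L, ⊤)}
    (hv : v ≠ 0) (U : X.Opens) : Function.Injective ((mul M v).app U) := by
  refine (injective_iff_map_eq_zero _).2 fun m hm => ?_
  let α := (DCoh.tensorBi.obj M).map (InvX.ofSect v)
  haveI : Mono α := by
    have hLlf : FlatMod.IsFinLocFree L := H28.KvbModel.lf_of_rank (H28.PBCores.isInvertible_iff_rank.1 hL)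
    haveI : Mono (InvX.ofSect v) := UnitMono.mono_of_ne_zero hLlf _ (ofSect_ne_zero hv)
    have hι : (ShortComplex.mk (InvX.ofSect v) (cokernel.π (InvX.ofSect v)) (cokernel.condition _)).ShortExact :=
      { exact := ShortComplex.exact_cokernel _ }
    exact (CurveTensor.shortExact_tensor hM _ _ _ hι).mono_f
  refine AModX.eq_of_locally _ _ fun p hp => ?_
  obtain ⟨_, ⟨W, hW, rfl⟩, hpW, hWU⟩ := X.isBasis_affineOpens.exists_subset_of_mem_open hp U.2
  refine ⟨W, hWU, hpW, ?_⟩
  rw [map_zero]
  have h1 : α.app W (QCoh.tmS M (Coh.structureModule X) (res M hWU m) (show Γ(X, W) from 1)) = 0 := by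
    rw [tensor_ofSect, app_res, hm, map_zero]
  have h2 : QCoh.tmS M (Coh.structureModule X) (res M hWU m) (show Γ(X, W) from 1) = 0 := by
    exact (QCoh.app_injective α W) (h1.trans (map_zero _).symm)
  refine (Euler.bijective_tmS_frame (QCoh.isQCoh_of_isFinLocFree hM) QCoh.isCoh_structureModule'.1 hW
    (show InvX.IsFrame (M := Coh.structureModule X) (show Γ(X, W) from 1) from InvX.isFrame_one W)).1 ?_
  refine h2.trans ?_
  show (0 : Γ(CohB1.tensorMod M (Coh.structureModule X), W)) = InvX.tmul 0 _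
  have h := InvX.tmul_smul_left (0 : Γ(X, W)) (0 : Γ(M, W)) (show Γ(Coh.structureModule X, W) from (1 : Γ(X, W)))
  rw [smul_zero, zero_smul] at h
  exact h.symm

end Groth.Agent.H28.GM
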