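import Groth.Agent.H28.GM.Seq
import Groth.Agent.QCoh.Ab.PushNat
import Groth.Agent.PnCoh.PushNat

/-!
# Sections, the connecting map and direct images
-/

set_option autoImplicit false
set_option backward.isDefEq.respectTransparency false
set_option backward.isDefEq.respectTransparency.types false
set_option linter.style.haveILetI false
set_option linter.unusedSectionVars false
set_option maxHeartbeats 1000000
set_option synthInstance.maxHeartbeats 400000

universe u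

open CategoryTheory CategoryTheory.Limits AlgebraicGeometry TopologicalSpace Opposite
open CategoryTheory.Abelian

noncomputable section

namespace Groth.Agent.H28.GM

open Groth.Agent Groth.Agent.AModX Groth.Agent.PnCoh.Finite

theorem exact_middle {Y : TopCat.{u}} {T : ShortComplex (CohTop.Ab Y)} (hT : T.ShortExact) (x : CohTop.H T.X₂ 1)
    (hx : Sheaf.H.map T.g 1 x = 0) : ∃ y, Sheaf.H.map T.f 1 y = x :=
  Ext.covariant_sequence_exact₂ _ hT x hx

variable {k : Type u} [Field k] {X : Scheme.{u}} [X.Over (Spec (CommRingCat.of k))]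

/-- Cohomology in degree zero is the global sections. -/
def h0sec (M : X.Modules) : Coh.HH X M 0 ≃+ Γ(M, ⊤) := Sheaf.H.equiv₀ (Coh.toAb M) isTerminalTop

omit [X.Over (Spec (CommRingCat.of k))] in
theorem h0sec_map {M N : X.Modules} (φ : M ⟶ N) (y : Coh.HH X M 0) :
    φ.app ⊤ (h0sec M y) = h0sec N (Sheaf.H.map ((QCoh.toAbFunctor X).map φ) 0 y) :=
  Sheaf.H.equiv₀_naturality isTerminalTop ((QCoh.toAbFunctor X).map φ) y

theorem h0sec_smul (M : X.Modules) (a : k) (y : Coh.HH X M 0) :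
    h0sec M (a • y) =
      (ProjUP.toGlobal (X := X) (X ↘ Spec (CommRingCat.of k)) a • h0sec M y : Γ(M, ⊤)) := by
  refine (Sheaf.H.equiv₀_naturality isTerminalTop (Coh.smulAb M (Coh.toGlobal (X ↘ Spec (CommRingCat.of k)) a)) y).symm.trans ?_
  show resR (X := X) (le_rfl : (⊤ : X.Opens) ≤ ⊤) (Coh.toGlobal (X ↘ Spec (CommRingCat.of k)) a) • h0sec M y = _
  rw [resR_self]
  rfl

variable {S : ShortComplex X.Modules} (hS : S.ShortExact)

variable (k) in
/-- The connecting map on sections. -/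
def dl (r : Γ(S.X₃, ⊤)) : Coh.HH X S.X₁ 1 := deltaLin k hS 0 ((h0sec S.X₃).symm r)

theorem dl_smul (a : k) (r : Γ(S.X₃, ⊤)) :
    dl k hS (ProjUP.toGlobal (X := X) (X ↘ Spec (CommRingCat.of k)) a • r : Γ(S.X₃, ⊤)) = a • dl k hS r := by
  show deltaLin k hS 0 ((h0sec S.X₃).symm _) = a • deltaLin k hS 0 _
  rw [← map_smul]
  congr 1
  apply (h0sec S.X₃).injective
  rw [h0sec_smul, AddEquiv.apply_symm_apply, AddEquiv.apply_symm_apply]

theorem dl_eq_zero_iff (r : Γ(S.X₃, ⊤)) : dl k hS r = 0 ↔ ∃ u : Γ(S.X₂, ⊤), S.g.app ⊤ u = r := by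
  refine (QCoh.Ab.connecting_eq_zero_iff (X := X.toPresheafedSpace.carrier) (QCoh.toAb_shortExact hS) 0 _).trans
    ⟨fun ⟨y, hy⟩ => ⟨h0sec S.X₂ y, ?_⟩, fun ⟨u, hu⟩ => ⟨(h0sec S.X₂).symm u, (h0sec S.X₃).injective ?_⟩⟩
  · refine (h0sec_map S.g y).trans ?_
    exact (congrArg (h0sec S.X₃) hy).trans (AddEquiv.apply_symm_apply _ _)
  · refine (h0sec_map S.g _).symm.trans ?_
    rw [AddEquiv.apply_symm_apply]
    exact hu.trans (AddEquiv.apply_symm_apply _ _).symm

theorem exists_dl {x : Coh.HH X S.X₁ 1} (hx : Canon.HHlin k S.f 1 x = 0) : ∃ r, dl k hS r = x := by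
  obtain ⟨y, hy⟩ := (PnDual.HHlin_f_eq_zero_iff hS 0 x).1 hx
  refine ⟨h0sec S.X₃ y, ?_⟩
  show deltaLin k hS 0 ((h0sec S.X₃).symm (h0sec S.X₃ y)) = x
  rw [AddEquiv.symm_apply_apply]
  exact hy

theorem f_dl (r : Γ(S.X₃, ⊤)) : Canon.HHlin k S.f 1 (dl k hS r) = 0 :=
  (PnDual.HHlin_f_eq_zero_iff hS 0 _).2 ⟨_, rfl⟩

include hS in
theorem exists_of_g {x : Coh.HH X S.X₂ 1} (hx : Canon.HHlin k S.g 1 x = 0) :
    ∃ y, Canon.HHlin k S.f 1 y = x :=
  exact_middle (Y := X.toPresheafedSpace.carrier) (T := S.map (QCoh.toAbFunctor X)) (QCoh.toAb_shortExact hS) x hx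

include hS in
theorem g_f (y : Coh.HH X S.X₁ 1) : Canon.HHlin k S.g 1 (Canon.HHlin k S.f 1 y) = 0 := by
  rw [PnDual.HHlin_comp, S.zero]
  show Sheaf.H.map ((QCoh.toAbFunctor X).map 0) 1 y = 0
  rw [Functor.map_zero]
  show ((Sheaf.functorH _ 1).map 0).hom y = 0
  rw [Functor.map_zero]; rfl

theorem dl_natural {S' : ShortComplex X.Modules} (hS' : S'.ShortExact) (φ : S ⟶ S') (r : Γ(S.X₃, ⊤)) :
    Canon.HHlin k φ.τ₁ 1 (dl k hS r) = dl k hS' (φ.τ₃.app ⊤ r) := by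
  have h : (h0sec S'.X₃).symm (φ.τ₃.app ⊤ r) =
      Sheaf.H.map ((QCoh.toAbFunctor X).map φ.τ₃) 0 ((h0sec S.X₃).symm r) := by
    apply (h0sec S'.X₃).injective
    rw [AddEquiv.apply_symm_apply, ← h0sec_map, AddEquiv.apply_symm_apply]
  refine (QCoh.Ab.connecting_naturality (X := X.toPresheafedSpace.carrier) (QCoh.toAb_shortExact hS)
    (QCoh.toAb_shortExact hS') ((QCoh.toAbFunctor X).mapShortComplex.map φ) 0 _).trans ?_
  exact congrArg (deltaLin k hS' 0) h.symm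

omit [X.Over (Spec (CommRingCat.of k))] in
include hS in
/-- Sections are left exact. -/
theorem exists_section_lift {u : Γ(S.X₂, ⊤)} (hu : S.g.app ⊤ u = 0) : ∃ r : Γ(S.X₁, ⊤), S.f.app ⊤ r = u := by
  haveI := hS.mono_f
  have h0 : InvX.ofSect u ≫ S.g = 0 := by
    refine RegEpi.hom_eq_of_one_eq _ _ ?_
    show S.g.app ⊤ (InvX.one (InvX.ofSect u)) = (0 : Γ(S.X₃, ⊤))
    rw [InvX.one_ofSect, hu]
  refine ⟨InvX.one (hS.exact.lift (InvX.ofSect u) h0), ?_⟩
  have h := congrArg InvX.one (hS.exact.lift_f (InvX.ofSect u) h0)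
  rw [InvX.one_ofSect] at h
  exact h

/-- Cohomology of direct images along affine morphisms, naturally in quasi-coherent modules. -/
theorem exists_push_natural {Z : Scheme.{u}} (j : Z ⟶ X) [IsAffineHom j] :
    ∃ e : ∀ M : Z.Modules, Coh.IsQCoh M → Coh.HH Z M 1 ≃+ Coh.HH X ((Scheme.Modules.pushforward j).obj M) 1,
      ∀ (M N : Z.Modules) (hM : Coh.IsQCoh M) (hN : Coh.IsQCoh N) (φ : M ⟶ N) (x : Coh.HH Z M 1),
        e N hN (Sheaf.H.map ((QCoh.toAbFunctor Z).map φ) 1 x) =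
          Sheaf.H.map ((QCoh.toAbFunctor X).map ((Scheme.Modules.pushforward j).map φ)) 1 (e M hM x) := by
  have hb : QCoh.Ab.PreimageBasis j.base (QCoh.stdCovers Z) := fun U y hy => by
    obtain ⟨_, ⟨W, hW, rfl⟩, hyW, hWU⟩ := X.isBasis_affineOpens.exists_subset_of_mem_open hy U.2
    exact ⟨W, hWU, hyW, hW.preimage j⟩
  obtain ⟨e, he⟩ := QCoh.Ab.H_push_natural j.base (QCoh.stdCovers Z) hb 1
  exact ⟨fun M hM => e _ (QCoh.stdCovers_acyclic hM),
    fun M N hM hN φ x => he _ _ (QCoh.stdCovers_acyclic hM) (QCoh.stdCovers_acyclic hN) _ x⟩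

end Groth.Agent.H28.GM
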