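import Groth.Agent.H28.GM.Mul

/-!
# The restriction sequence of a multiplication
-/

set_option autoImplicit false
set_option backward.isDefEq.respectTransparency false
set_option backward.isDefEq.respectTransparency.types false
set_option linter.style.haveILetI false
set_option linter.unusedSectionVars false
set_option maxHeartbeats 1000000
set_option synthInstance.maxHeartbeats 400000

universe u

open CategoryTheory CategoryTheory.Limits AlgebraicGeometry TopologicalSpace Opposite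
open scoped Groth.Agent.H23.PicMul

noncomputable section

namespace Groth.Agent.H28.GM

open Groth.Agent Groth.Agent.H23.PicMul Groth.Agent.AModX

variable {X : Scheme.{u}} [IsIntegral X] [IsLocallyNoetherian X] {L : X.Modules}

/-- The restriction of a module to a closed subscheme, pushed forward. -/
abbrev restr {Z : Scheme.{u}} (j : Z ⟶ X) (M : X.Modules) : X.Modules :=
  (Scheme.Modules.pushforward j).obj ((Scheme.Modules.pullback j).obj M)

/-- The restriction map. -/
abbrev toRestr {Z : Scheme.{u}} (j : Z ⟶ X) (M : X.Modules) : M ⟶ restr j M :=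
  (Scheme.Modules.pullbackPushforwardAdjunction j).unit.app M

theorem isFinLocFree_tensor (hL : PicF.IsInvertible L) {M : X.Modules} (hM : FlatMod.IsFinLocFree M) :
    FlatMod.IsFinLocFree (CohB1.tensorMod M L) :=
  Synt29.PnEuler.isFinLocFree_tensorMod hM (H28.KvbModel.lf_of_rank (H28.PBCores.isInvertible_iff_rank.1 hL))

theorem mul_restr (hL : PicF.IsInvertible L) {M : X.Modules} (hM : FlatMod.IsFinLocFree M) (v : Γ(L, ⊤))
    {Z : Scheme.{u}} (j : Z ⟶ X) [IsClosedImmersion j] (hker : j.ker = PicF2.zeroScheme L (InvX.ofSect v)) :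
    mul M v ≫ toRestr j (CohB1.tensorMod M L) = 0 := by
  let N := CohB1.tensorMod M L
  have hN : Coh.IsQCoh N := QCoh.isQCoh_of_isFinLocFree (isFinLocFree_tensor hL hM)
  refine Scheme.Modules.hom_ext _ _ fun U => AddCommGrpCat.hom_ext (AddMonoidHom.ext fun m => ?_)
  show (toRestr j N).app U ((mul M v).app U m) = 0
  refine AModX.eq_of_locally (M := restr j N) _ _ fun x hx => ?_
  obtain ⟨U₀, hxU₀, e₀, he₀⟩ := InvX.exists_frame hL x
  obtain ⟨_, ⟨W, hW, rfl⟩, hxW, hWU⟩ :=
    X.isBasis_affineOpens.exists_subset_of_mem_open (show x ∈ U₀ ⊓ U from ⟨hxU₀, hx⟩) (U₀ ⊓ U).2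
  have hWU₀ : W ≤ U₀ := fun y hy => (hWU hy).1
  have hWU' : W ≤ U := fun y hy => (hWU hy).2
  refine ⟨W, hWU', hxW, ?_⟩
  rw [map_zero, ← app_res, ← app_res]
  have he := he₀.res hWU₀
  obtain ⟨c, hc⟩ := he.exists_coord le_rfl (res L (le_top : W ≤ ⊤) v)
  rw [res_self] at hc
  refine ((QCoh.unit_app_closed j hN hW).2 _).2 ?_
  have hid : j.ker.ideal ⟨W, hW⟩ = Ideal.span {c} := by
    rw [hker, ZeroSchX.ideal_zeroScheme hL, ZeroSchX.zeroIdealOn_eq_span _ he]
    refine Eq.trans ?_ hc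
    show (InvX.ofSect v).app W (1 : Γ(X, W)) = _
    exact one_smul Γ(X, W) (res L (le_top : W ≤ ⊤) v)
  rw [hid, mul_app, hc, InvX.tmul_smul_right]
  exact Submodule.smul_mem_smul (Ideal.mem_span_singleton_self _) trivial

/-- The restriction sequence. -/
abbrev seq (hL : PicF.IsInvertible L) {M : X.Modules} (hM : FlatMod.IsFinLocFree M) (v : Γ(L, ⊤))
    {Z : Scheme.{u}} (j : Z ⟶ X) [IsClosedImmersion j] (hker : j.ker = PicF2.zeroScheme L (InvX.ofSect v)) :
    ShortComplex X.Modules :=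
  ShortComplex.mk (mul M v) (toRestr j (CohB1.tensorMod M L)) (mul_restr hL hM v j hker)

theorem seq_shortExact (hL : PicF.IsInvertible L) {M : X.Modules} (hM : FlatMod.IsFinLocFree M) {v : Γ(L, ⊤)}
    (hv : v ≠ 0) {Z : Scheme.{u}} (j : Z ⟶ X) [IsClosedImmersion j]
    (hker : j.ker = PicF2.zeroScheme L (InvX.ofSect v)) : (seq hL hM v j hker).ShortExact := by
  let N := CohB1.tensorMod M L
  let S := seq hL hM v j hker
  have hMq : Coh.IsQCoh M := QCoh.isQCoh_of_isFinLocFree hM
  have hLq : Coh.IsQCoh L := ZeroSchX.isQCoh_inv hL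
  have hN : Coh.IsQCoh N := QCoh.isQCoh_of_isFinLocFree (isFinLocFree_tensor hL hM)
  haveI : Epi S.g := Nakai.epi_unit j hN
  haveI : Mono S.f := ⟨fun {A} φ ψ h => Scheme.Modules.hom_ext _ _ fun U =>
    AddCommGrpCat.hom_ext (AddMonoidHom.ext fun a => mul_injective hL hM hv U congr($(h).app U a))⟩
  have hex : S.Exact := by
    rw [S.exact_iff_kernel_ι_comp_cokernel_π_zero]
    refine QCoh.hom_eq_zero_of_affine _ fun U hU z => ?_
    refine AModX.eq_of_locally (M := cokernel S.f) _ _ fun x hx => ?_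
    obtain ⟨U₀, hxU₀, e₀, he₀⟩ := InvX.exists_frame hL x
    obtain ⟨_, ⟨V, hV, rfl⟩, hxV, hVW⟩ :=
      X.isBasis_affineOpens.exists_subset_of_mem_open (show x ∈ U₀ ⊓ U from ⟨hxU₀, hx⟩) (U₀ ⊓ U).2
    have hVU₀ : V ≤ U₀ := fun y hy => (hVW hy).1
    have hVU : V ≤ U := fun y hy => (hVW hy).2
    refine ⟨V, hVU, hxV, ?_⟩
    rw [map_zero]
    refine (app_res (kernel.ι S.g ≫ cokernel.π S.f) hVU z).symm.trans ?_
    show (cokernel.π S.f).app V ((kernel.ι S.g).app V (res _ hVU z)) = 0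
    set t := (kernel.ι S.g).app V (res _ hVU z) with ht
    have h0 : S.g.app V t = 0 := congr($(kernel.condition S.g).app V (res _ hVU z))
    have he := he₀.res hVU₀
    obtain ⟨c, hc⟩ := he.exists_coord le_rfl (res L (le_top : V ≤ ⊤) v)
    rw [res_self] at hc
    have hid : j.ker.ideal ⟨V, hV⟩ = Ideal.span {c} := by
      rw [hker, ZeroSchX.ideal_zeroScheme hL, ZeroSchX.zeroIdealOn_eq_span _ he]
      refine Eq.trans ?_ hc
      show (InvX.ofSect v).app V (1 : Γ(X, V)) = _
      exact one_smul Γ(X, V) (res L (le_top : V ≤ ⊤) v)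
    have h2 := ((QCoh.unit_app_closed j hN hV).2 t).1 h0
    rw [hid, Submodule.ideal_span_singleton_smul, Submodule.mem_smul_pointwise_iff_exists] at h2
    obtain ⟨y, -, hy⟩ := h2
    obtain ⟨m, hm⟩ := (Euler.bijective_tmS_frame hMq hLq hV he).2 y
    rw [← hy, show (c • y : Γ(N, V)) = S.f.app V m from by
      rw [← show InvX.tmul m (res L hVU₀ e₀) = y from hm]
      show _ = InvX.tmul m (res L le_top v)
      rw [hc, InvX.tmul_smul_right]]
    exact congr($(cokernel.condition S.f).app V m)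
  exact { exact := hex }

/-- A hyperplane. -/
theorem exists_hyp (k : Type u) [Field k] (n : ℕ) {v : Γ(Twist.twistProjSpace (n + 1) k 1, ⊤)} (hv : v ≠ 0) :
    ∃ j : CohB1.ProjSpace n k ⟶ CohB1.ProjSpace (n + 1) k, IsClosedImmersion j ∧
      j ≫ CohB1.ProjSpace.toSpec (n + 1) k = CohB1.ProjSpace.toSpec n k ∧
      Nonempty ((Scheme.Modules.pullback j).obj (Twist.twistProjSpace (n + 1) k 1) ≅ Twist.twistProjSpace n k 1) ∧
      j.ker = PicF2.zeroScheme (Twist.twistProjSpace (n + 1) k 1) (InvX.ofSect v) := by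
  obtain ⟨φ, hφq, ⟨τ⟩⟩ := Synt29.HyperIso.exists_iso k n (InvX.ofSect v) (ofSect_ne_zero hv)
  refine ⟨φ.hom ≫ (PicF2.zeroScheme _ (InvX.ofSect v)).subschemeι, inferInstance, hφq, ⟨τ⟩, ?_⟩
  rw [Scheme.Hom.ker_comp_of_isIso, Scheme.IdealSheafData.ker_subschemeι]

end Groth.Agent.H28.GM
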