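import Groth.Agent.H28.GM.Linear
import Groth.Agent.CanonEval.Push

/-!
# No socle in `H¹(F(-1))`
-/

set_option autoImplicit false
set_option backward.isDefEq.respectTransparency false
set_option backward.isDefEq.respectTransparency.types false
set_option linter.style.haveILetI false
set_option linter.unusedSectionVars false
set_option maxHeartbeats 1000000
set_option synthInstance.maxHeartbeats 400000

universe u

open CategoryTheory CategoryTheory.Limits AlgebraicGeometry TopologicalSpace Opposite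
open scoped Groth.Agent.H23.PicMul

noncomputable section

namespace Groth.Agent.H28.GM

open Groth.Agent Groth.Agent.Synt29 Groth.Agent.H23.PicMul Groth.Agent.AModX

variable {k : Type u} [Field k] [IsAlgClosed k]

local instance over_' : ∀ m : ℕ, (CohB1.ProjSpace m k).Over (Spec (CommRingCat.of k)) := fun m =>
  ⟨CohB1.ProjSpace.toSpec m k⟩

local instance qs' : ∀ m : ℕ, QuasiSeparated (CohB1.ProjSpace.toSpec m k) := fun m => by
  haveI := PnCoh.Chow.isProper_toSpec m k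
  infer_instance

local instance integral' : ∀ m : ℕ, IsIntegral (CohB1.ProjSpace m k) := fun m =>
  H23.PnChart.isIntegral_projSpace m k

local instance noeth' : ∀ m : ℕ, IsLocallyNoetherian (CohB1.ProjSpace m k) := fun m =>
  PnCoh.Finite.isLocallyNoetherian_projSpace m k

theorem tmul_comm {X : Scheme.{u}} {L M : X.Modules} (hL : PicF.IsInvertible L) (a : Γ(M, ⊤))
    (v w : Γ(L, ⊤)) : InvX.tmul (InvX.tmul a v) w = InvX.tmul (InvX.tmul a w) v := by
  have h := congr($(mul_comm hL M v w).app ⊤ a)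
  have e : ∀ p q : Γ(L, ⊤), (mul M p ≫ mul (CohB1.tensorMod M L) q).app ⊤ a = InvX.tmul (InvX.tmul a p) q := by
    intro p q
    show (mul (CohB1.tensorMod M L) q).app ⊤ ((mul M p).app ⊤ a) = _
    rw [mul_app_top, mul_app_top]
  rw [← e, ← e, h]

variable {m : ℕ}

/-- Two elements with the proportionality of the forms: `ρ ⊗ w` always a multiple of `σ` makes `ρ` one. -/
theorem proportional {G : (CohB1.ProjSpace m k).Modules} (hG : FlatMod.IsFinLocFree G) {L : (CohB1.ProjSpace m k).Modules}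
    (τ : L ≅ Hl m k) {σ ρ : Γ(G, ⊤)} (hσ : σ ≠ 0)
    (h : ∀ w : Γ(L, ⊤), ∃ v : Γ(L, ⊤), InvX.tmul ρ w = InvX.tmul σ v) :
    ∃ a : k, ρ = (ProjUP.toGlobal (CohB1.ProjSpace.toSpec m k) a • σ : Γ(G, ⊤)) := by
  -- transport to the standard twist
  have h' : ∀ w : Γ(Hl m k, ⊤), ∃ v : Γ(Hl m k, ⊤), InvX.tmul ρ w = InvX.tmul σ v := fun w => by
    obtain ⟨v, hv⟩ := h (τ.inv.app ⊤ w)
    refine ⟨τ.hom.app ⊤ v, ?_⟩
    have h1 := congrArg (((DCoh.tensorBi.obj G).map τ.hom).app ⊤) hv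
    have e : ∀ (p : Γ(G, ⊤)) (q : Γ(L, ⊤)), ((DCoh.tensorBi.obj G).map τ.hom).app ⊤ (InvX.tmul p q) =
        InvX.tmul p (τ.hom.app ⊤ q) := fun p q =>
      KFlatLib.tmSh_naturality_right G τ.hom (U := (⊤ : (CohB1.ProjSpace m k).Opens)) p q
    rw [e, e] at h1
    rw [← h1]
    refine congrArg (InvX.tmul ρ) ?_
    show w = (τ.inv ≫ τ.hom).app ⊤ w
    rw [τ.inv_hom_id]
    rfl
  obtain ⟨y, hy⟩ : ∃ y : Γ(Hl m k, ⊤), y ≠ 0 := by
    refine ⟨ProjUP.coord m k 0, fun hc => ?_⟩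
    have h0 : (fun i : Fin (m + 1) => if i = 0 then (1 : k) else 0) = 0 := HyperH0.coord_indep m _ (by
      rw [Finset.sum_eq_single 0]
      · rw [if_pos rfl, map_one, one_smul]
        exact hc
      · intro i _ hi
        rw [if_neg hi, map_zero, zero_smul]
      · simp)
    simpa using congrFun h0 0
  obtain ⟨v₁, h1⟩ := h' y
  obtain ⟨v₂, h2⟩ := h' v₁
  have hL := isInvertible_Hl (k := k) m
  have hsq : InvX.tmul (InvX.tmul σ v₁) v₁ = InvX.tmul (InvX.tmul σ v₂) y := by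
    rw [← h1, ← h2, tmul_comm hL]
  obtain ⟨a, ha⟩ : ∃ a : k, v₁ = (ProjUP.toGlobal (CohB1.ProjSpace.toSpec m k) a • y : Γ(Hl m k, ⊤)) := by
    rcases m with _ | m
    · exact exists_smul_point hy
    obtain ⟨j, hj, hjq, ⟨τj⟩, hker⟩ := exists_hyp k m hy
    haveI := hj
    exact exists_of_pullSec_eq_zero j hy hker (pullSec_eq_zero_of_square hL hG hσ v₁ v₂ y hsq j hker)
  refine ⟨a, (mul_injective hL hG hy ⊤) ?_⟩
  rw [mul_app_top, mul_app_top, h1, ha, InvX.tmul_smul_right, InvX.tmul_smul_left]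

/-- No element of `H¹(F(-1))` is killed by all forms. -/
theorem socle_vanish {F₀ : (CohB1.ProjSpace (m + 1) k).Modules} (hF : FlatMod.IsFinLocFree F₀)
    (h0 : Subsingleton Γ(F₀, ⊤)) {σ : Γ(CohB1.tensorMod F₀ (Hl (m + 1) k), ⊤)} (hσ : σ ≠ 0)
    (hsec : ∀ u : Γ(CohB1.tensorMod (CohB1.tensorMod F₀ (Hl (m + 1) k)) (Hl (m + 1) k), ⊤),
      ∃ v : Γ(Hl (m + 1) k, ⊤), u = InvX.tmul σ v)
    (ξ : Coh.HH (CohB1.ProjSpace (m + 1) k) F₀ 1)
    (hξ : ∀ w : Γ(Hl (m + 1) k, ⊤), Canon.HHlin k (mul F₀ w) 1 ξ = 0) : ξ = 0 := by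
  let L := Hl (m + 1) k
  let F₁ := CohB1.tensorMod F₀ L
  let F₂ := CohB1.tensorMod F₁ L
  have hL := isInvertible_Hl (k := k) (m + 1)
  have hF₁ : FlatMod.IsFinLocFree F₁ := isFinLocFree_tensor hL hF
  obtain ⟨z, hz⟩ : ∃ z : Γ(L, ⊤), z ≠ 0 := by
    by_contra! hall
    obtain ⟨e⟩ := nonempty_O_zero (m := m + 1) (k := k)
    exact Rank2Pn.not_subsingleton_line (n := m + 1) (k := k) (j := 1) (by omega)
      (HyperH0.subsingleton_HH0 ⟨fun a b => (hall a).trans (hall b).symm⟩)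
  obtain ⟨g, hg, hgq, ⟨τ⟩, hker⟩ := exists_hyp k m hz
  haveI := hg
  have hS := seq_shortExact hL hF hz g hker
  have hS' := seq_shortExact hL hF₁ hz g hker
  obtain ⟨r, rfl⟩ := exists_dl hS (x := ξ) (hξ z)
  let G := (Scheme.Modules.pullback g).obj F₁
  let L' := (Scheme.Modules.pullback g).obj L
  let ρ : Γ(G, ⊤) := r
  have hGl : FlatMod.IsFinLocFree G := CanonEval.isFinLocFree_pullback g hF₁
  let σ' : Γ(G, ⊤) := ProjUP.pullSec g F₁ σ
  have hσ' : σ' ≠ 0 := fun h => by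
    obtain ⟨a, ha⟩ := exists_section_lift hS (u := σ) h
    exact hσ (ha.symm.trans ((congrArg ((mul F₀ z).app ⊤) (h0.elim a 0)).trans (map_zero _)))
  have hw : ∀ w : Γ(L', ⊤), ∃ v : Γ(L', ⊤), InvX.tmul ρ w = InvX.tmul σ' v := by
    intro w'
    obtain ⟨w, hw⟩ := exists_pullSec_eq g hz hker w'
    let η := (Scheme.Modules.pullbackPushforwardAdjunction g).unit
    let φ : seq hL hF z g hker ⟶ seq hL hF₁ z g hker :=
      { τ₁ := mul F₀ w
        τ₂ := mul F₁ w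
        τ₃ := (Scheme.Modules.pushforward g).map ((Scheme.Modules.pullback g).map (mul F₁ w))
        comm₁₂ := mul_comm hL F₀ w z
        comm₂₃ := η.naturality (mul F₁ w) }
    have h1 : dl k hS' (φ.τ₃.app ⊤ r) = 0 := (dl_natural hS hS' φ r).symm.trans (hξ w)
    obtain ⟨u, hu⟩ := (dl_eq_zero_iff hS' _).1 h1
    obtain ⟨v, rfl⟩ := hsec u
    refine ⟨ProjUP.pullSec g L v, ?_⟩
    have h2 := congrArg ((KFlatLib.pullTensorHom g F₁ L).app ⊤) hu
    refine Eq.trans ?_ (h2.symm.trans (pullTensor_tmul g F₁ L σ v))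
    rw [← hw]
    refine Eq.trans (mul_app_top G (ProjUP.pullSec g L w) ρ).symm ?_
    exact congr($((pull_mul g F₁ w).symm).app ⊤ ρ)
  obtain ⟨a, ha⟩ := proportional hGl τ hσ' hw
  have hr : r = (toRestr g F₁).app ⊤
      (ProjUP.toGlobal (CohB1.ProjSpace.toSpec (m + 1) k) a • σ : Γ(F₁, ⊤)) :=
    ha.trans (pullSec_smul g F₁ _ _ hgq a σ).symm
  exact (dl_eq_zero_iff hS r).2 ⟨_, hr.symm⟩

end Groth.Agent.H28.GM
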